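import Cfsg.Agent.Lib.ZStar.Q8
import Cfsg.Agent.Lib.PGroups.UniqueInvolution
import Cfsg.Agent.S0847
import Cfsg.Agent.S0942

/-!
# Glauberman's theorem
-/

set_option autoImplicit false

namespace Cfsg.Agent.Lib.ZStar.UniqueCase

open Cfsg.Agent.Lib.Involutions.Basic

universe u

/-- Principal block constancy. -/
theorem principalConst : Reduction.PrincipalConst.{u} :=
  fun _G _ _ M hM z v k hz hv χ hχ => Cfsg.Agent.S0942.result 2 M hM z ⟨k, hz⟩ v hv χ hχ

theorem mem_center_aux : ∀ (n : ℕ) (G : Type u) [Group G] [Finite G] (t : G), Nat.card G = n →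
    orderOf t = 2 → (∀ x : G, orderOf x = 2 → Commute t x → x = t) →
    (∀ N : Subgroup G, N.Normal → Odd (Nat.card N) → N = ⊥) → t ∈ Subgroup.center G := by
  intro n
  induction n using Nat.strong_induction_on with
  | _ n ih =>
    intro G _ _ t hn ht huniq hO
    obtain ⟨P, hP⟩ :=
      (IsPGroup.of_card (p := 2) (n := 1) (by rw [Nat.card_zpowers, ht, pow_one]) :
        IsPGroup 2 (Subgroup.zpowers t)).exists_le_sylow
    have htP : t ∈ (P : Subgroup G) := hP (Subgroup.mem_zpowers t)
    have hcomm : ∀ y ∈ (P : Subgroup G), Commute t y := by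
      have hne : Nontrivial (P : Subgroup G) :=
        ⟨⟨⟨t, htP⟩, 1, fun h => invol_ne_one ht (congrArg Subtype.val h)⟩⟩
      have hcn : Nontrivial (Subgroup.center (P : Subgroup G)) := P.2.center_nontrivial
      obtain ⟨m, hm0, hm⟩ := (P.2.to_subgroup _).nontrivial_iff_card.1 hcn
      obtain ⟨z, hz⟩ := exists_prime_orderOf_dvd_card' 2
        (hm ▸ dvd_pow_self 2 (by omega) : 2 ∣ Nat.card (Subgroup.center (P : Subgroup G)))
      have hz' : orderOf ((z : (P : Subgroup G)) : G) = 2 := by
        rw [Subgroup.orderOf_coe, Subgroup.orderOf_coe, hz]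
      have hzt := huniq _ hz'
        (congrArg Subtype.val (Subgroup.mem_center_iff.1 z.2 ⟨t, htP⟩))
      intro y hy
      rw [← hzt]
      exact (congrArg Subtype.val (Subgroup.mem_center_iff.1 z.2 ⟨y, hy⟩)).symm
    have hu : ∀ x y : (P : Subgroup G), orderOf x = 2 → orderOf y = 2 →
        y ∈ Subgroup.zpowers x := by
      intro x y hx hy
      rw [← Subgroup.orderOf_coe] at hx hy
      have h := (huniq _ hx (hcomm _ x.2)).trans (huniq _ hy (hcomm _ y.2)).symm
      rw [Subtype.ext h]
      exact Subgroup.mem_zpowers y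
    rcases PGroups.isCyclic_or_quaternion P.2 hu with hcyc | ⟨-, m, hm, ⟨e⟩⟩
    · have hmin : (Nat.card G).minFac = 2 := by
        rw [Nat.minFac_eq_two_iff]
        exact ht ▸ orderOf_dvd_natCard t
      have hK := hcyc.isComplement' hmin
      have h2 : ¬ 2 ∣ Nat.card (MonoidHom.transferSylow P (hcyc.normalizer_le_centralizer hmin)).ker := by
        rw [← hK.index_eq_card]
        exact P.not_dvd_index
      have hbot := hO _
        (MonoidHom.normal_ker (MonoidHom.transferSylow P (hcyc.normalizer_le_centralizer hmin)))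
        (Nat.odd_iff.2 (by omega))
      have hPtop : (P : Subgroup G) = ⊤ := Subgroup.eq_top_of_card_eq _ (by
        rw [← hK.card_mul_card, hbot]; simp)
      exact Subgroup.mem_center_iff.2 fun g => (hcomm g (hPtop ▸ Subgroup.mem_top g)).eq.symm
    · obtain ⟨j, rfl⟩ := Nat.exists_eq_add_of_le hm
      rcases Nat.eq_zero_or_pos j with rfl | hj
      · refine Q8.mem_center_of_quaternion principalConst ht huniq hO P htP e
          fun N hN hNtop htN => ih (Nat.card N) ?_ N ⟨t, htN⟩ rfl
            (by rw [Subgroup.orderOf_mk, ht]) (fun x hx hc => ?_) fun M hM hModd => ?_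
        · rw [← hn]
          exact lt_of_le_of_ne (Subgroup.card_le_card_group N) fun e' =>
            hNtop ((Subgroup.card_eq_iff_eq_top N).1 e')
        · exact Subtype.ext (huniq x (by rw [Subgroup.orderOf_coe, hx]) (congrArg Subtype.val hc.eq))
        · have := hN
          have hle : M ≤ Cfsg.pPrimeCore 2 N :=
            Cores.le_pPrimeCore (p := 2) (Nat.coprime_two_right.2 hModd)
          have hcore : (Cfsg.pPrimeCore 2 N).map N.subtype = ⊥ := by
            refine hO _ (Cores.normal_map_subtype N _) ?_
            rw [Subgroup.card_map_of_injective N.subtype_injective, ← Nat.coprime_two_right]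
            exact Cores.pPrimeCore_coprime 2
          rw [Subgroup.map_eq_bot_iff_of_injective _ N.subtype_injective] at hcore
          exact le_bot_iff.1 (hcore ▸ hle)
      · obtain ⟨i, rfl⟩ : ∃ i, j = i + 1 := ⟨j - 1, by omega⟩
        have hcard := Cfsg.Agent.S0847.result P i
          (e.trans ((show 1 + (i + 1) = i + 2 by omega) ▸ MulEquiv.refl _))
          hO
        obtain ⟨z, hz⟩ := exists_prime_orderOf_dvd_card' (G := Subgroup.center G) 2 (by rw [hcard])
        have hzt : (z : G) = t := huniq _ (by rw [Subgroup.orderOf_coe, hz])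
          (Subgroup.mem_center_iff.1 z.2 t)
        exact hzt ▸ z.2

theorem uniqueCase : Reduction.UniqueCase.{u} :=
  fun G _ _ t ht huniq hO => mem_center_aux _ G t rfl ht huniq hO

/-- Glauberman's `Z*`-theorem. -/
theorem zstar {G : Type u} [Group G] [Finite G] (P : Sylow 2 G) (t : G) (ht : orderOf t = 2)
    (htP : t ∈ P) (hiso : ∀ g : G, g * t * g⁻¹ ∈ P → g * t * g⁻¹ = t) :
    Reduction.ZCentral t :=
  Reduction.zstar_of principalConst uniqueCase P t ht htP hiso

/-- Glauberman's theorem for an involution all whose commutators have odd order. -/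
theorem zcentral_of_iso {G : Type u} [Group G] [Finite G] {t : G} (h : Reduction.Iso t) :
    Reduction.ZCentral t :=
  Reduction.zcentral_of principalConst uniqueCase _ G t rfl h

/-- With trivial odd core an isolated involution is central. -/
theorem mem_center_of_iso {G : Type u} [Group G] [Finite G] {t : G} (h : Reduction.Iso t)
    (hO : ∀ N : Subgroup G, N.Normal → Odd (Nat.card N) → N = ⊥) : t ∈ Subgroup.center G := by
  obtain ⟨N, hN, hodd, hmem⟩ := zcentral_of_iso h
  rw [Subgroup.mem_center_iff]
  intro g
  have hm := hmem g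
  rw [hO N hN hodd, Subgroup.mem_bot, mul_inv_eq_one] at hm
  exact (mul_inv_eq_iff_eq_mul.1 hm).symm

end Cfsg.Agent.Lib.ZStar.UniqueCase
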