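import Cfsg.Agent.Lib.ZStar.Elements
import Cfsg.Agent.Lib.ZStar.UniqueCase
import Cfsg.Prelude.Def_TwoFusion

/-!
# Strongly closed subgroups acting on a core-free subgroup
-/

set_option autoImplicit false

namespace Cfsg.Agent.Lib.ZStar.StronglyClosed

open Cfsg.Agent.Lib.ZStar.Elements

universe u

/-- Glauberman's theorem in the form of `Elements.InvolutionThm`. -/
theorem involutionThm : InvolutionThm.{u} :=
  fun _G _ _ P t ht htP h => UniqueCase.zstar P t ht htP h

theorem commute_aux : ∀ (n : ℕ) (X : Type u) [Group X] [Finite X] (S : Sylow 2 X) (A H : Subgroup X),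
    Nat.card X = n → H.Normal → A ≤ (S : Subgroup X) →
    (∀ a ∈ A, ∀ g : X, g * a * g⁻¹ ∈ (S : Subgroup X) → g * a * g⁻¹ ∈ A) →
    A ⊓ H = ⊥ → A ⊔ H = ⊤ →
    (∀ N : Subgroup X, N.Normal → N ≤ H → Odd (Nat.card N) → N = ⊥) →
    ∀ a ∈ A, ∀ h ∈ H, a * h = h * a := by
  intro n
  induction n using Nat.strong_induction_on with
  | _ n ih =>
    intro X _ _ S A H hn hH hAS hcl hdisj hgen hcore
    by_cases hA : A = ⊥
    · intro a ha h _
      rw [hA, Subgroup.mem_bot] at ha
      rw [ha, one_mul, mul_one]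
    have hAp : IsPGroup 2 A := S.2.to_le hAS
    -- every odd normal subgroup lies in `H`
    have hodd : ∀ N : Subgroup X, N.Normal → Odd (Nat.card N) → N = ⊥ := by
      intro N hN hNodd
      refine hcore N hN (fun x hx => ?_) hNodd
      obtain ⟨a, ha, h, hh, rfl⟩ :=
        Subgroup.mem_sup_of_normal_right.1 (show x ∈ A ⊔ H from hgen ▸ Subgroup.mem_top x)
      obtain ⟨k, hk⟩ := IsPGroup.iff_orderOf.1 hAp ⟨a, ha⟩
      rw [Subgroup.orderOf_mk] at hk
      have hd1 : orderOf (QuotientGroup.mk' H (a * h)) ∣ 2 ^ k := by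
        rw [map_mul, (show QuotientGroup.mk' H h = 1 from (QuotientGroup.eq_one_iff h).2 hh), mul_one, ← hk]
        exact orderOf_map_dvd _ _
      have hd2 : orderOf (QuotientGroup.mk' H (a * h)) ∣ orderOf (a * h) := orderOf_map_dvd _ _
      have ho : Odd (orderOf (a * h)) :=
        hNodd.of_dvd_nat (Subgroup.orderOf_mk (a * h) hx ▸ orderOf_dvd_natCard _)
      exact (QuotientGroup.eq_one_iff (a * h)).1 (orderOf_eq_one_iff.1
        (Nat.eq_one_of_dvd_coprimes (ho.coprime_two_left.pow_left k) hd1 hd2))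
    -- the centre of `A` is central
    set Z : Subgroup X := (Subgroup.center A).map A.subtype with hZ
    have hZc : Z ≤ Subgroup.center X := by
      rintro _ ⟨⟨z, hz⟩, hzc, rfl⟩
      have hiso : IsolatedIn S z := by
        refine ⟨hAS hz, fun g hg => ?_⟩
        have hgA := hcl z hz g hg
        obtain ⟨b, hb, h, hh, rfl⟩ :=
          Subgroup.mem_sup_of_normal_right.1 (show g ∈ A ⊔ H from hgen ▸ Subgroup.mem_top g)
        have hbz : b * z * b⁻¹ = z :=
          mul_inv_eq_iff_eq_mul.2 (congrArg Subtype.val (Subgroup.mem_center_iff.1 hzc ⟨b, hb⟩))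
        have hm : z⁻¹ * (b * h * z * (b * h)⁻¹) ∈ A ⊓ H := by
          refine Subgroup.mem_inf.2 ⟨mul_mem (inv_mem hz) hgA, ?_⟩
          have e : z⁻¹ * (b * h * z * (b * h)⁻¹) =
              z⁻¹ * (b * h * b⁻¹) * (b * z * b⁻¹) * (b * h⁻¹ * b⁻¹) := by group
          rw [e, hbz]
          refine mul_mem ?_ (hH.conj_mem _ (inv_mem hh) b)
          simpa using hH.conj_mem _ (hH.conj_mem h hh b) z⁻¹
        rw [hdisj, Subgroup.mem_bot, inv_mul_eq_one] at hm
        exact hm.symm
      rw [Subgroup.mem_center_iff]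
      intro g
      have hm := commutator_mem_oddCore involutionThm _ X S z rfl hiso g
      have hb : Cfsg.oddCore X = ⊥ :=
        hodd _ (by unfold Cfsg.oddCore; infer_instance) oddCore_odd
      rw [hb, Subgroup.mem_bot, mul_inv_eq_one] at hm
      exact (mul_inv_eq_iff_eq_mul.1 hm).symm
    have hZA : Z ≤ A := Subgroup.map_subtype_le _
    have hZn : Z.Normal := by
      constructor
      intro a ha b
      rw [Subgroup.mem_center_iff.1 (hZc ha) b, mul_inv_cancel_right]
      exact ha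
    have hZne : Z ≠ ⊥ := by
      have : Nontrivial A := (Subgroup.nontrivial_iff_ne_bot A).2 hA
      have hnt : Nontrivial (Subgroup.center A) := hAp.center_nontrivial
      rw [hZ, Ne, Subgroup.map_eq_bot_iff_of_injective _ A.subtype_injective]
      exact (Subgroup.nontrivial_iff_ne_bot _).1 hnt
    set π := QuotientGroup.mk' Z with hπ
    have hπs := QuotientGroup.mk'_surjective Z
    have hlt : Nat.card (X ⧸ Z) < n := by
      rw [← hn, Subgroup.card_eq_card_quotient_mul_card_subgroup Z]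
      exact lt_mul_of_one_lt_right Nat.card_pos ((Subgroup.one_lt_card_iff_ne_bot Z).2 hZne)
    have hdiv : ∀ (K : Subgroup X), Z ≤ K → ∀ x : X, π x ∈ K.map π → x ∈ K := by
      intro K hK x hx
      have h : x ∈ (K.map π).comap π := hx
      rwa [Subgroup.comap_map_eq, QuotientGroup.ker_mk', sup_eq_left.2 hK] at h
    have key := ih _ hlt (X ⧸ Z) (S.mapSurjective hπs) (A.map π) (H.map π) rfl (hH.map _ hπs)
      (by rw [Sylow.coe_mapSurjective]; exact Subgroup.map_mono hAS)
      ?_ ?_ (by rw [← Subgroup.map_sup, hgen, Subgroup.map_top_of_surjective _ hπs]) ?_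
    · intro a ha h hh
      have h1 := key (π a) ⟨a, ha, rfl⟩ (π h) ⟨h, hh, rfl⟩
      rw [← map_mul, ← map_mul] at h1
      have h2 : (h * a)⁻¹ * (a * h) ∈ Z := (QuotientGroup.eq).1 h1.symm
      have h3 : (h * a)⁻¹ * (a * h) ∈ A ⊓ H := by
        refine Subgroup.mem_inf.2 ⟨hZA h2, ?_⟩
        rw [show (h * a)⁻¹ * (a * h) = a⁻¹ * h⁻¹ * a * h by group]
        exact mul_mem (by simpa using hH.conj_mem _ (inv_mem hh) a⁻¹) hh
      rw [hdisj, Subgroup.mem_bot, inv_mul_eq_one] at h3
      exact h3.symm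
    · rintro _ ⟨a, ha, rfl⟩ q hq
      obtain ⟨g, rfl⟩ := hπs q
      rw [← map_inv, ← map_mul, ← map_mul] at hq ⊢
      rw [Sylow.coe_mapSurjective] at hq
      exact ⟨_, hcl a ha g (hdiv _ (hZA.trans hAS) _ hq), rfl⟩
    · rw [eq_bot_iff]
      rintro _ ⟨⟨a, ha, rfl⟩, ⟨h, hh, he⟩⟩
      have hmem : h ∈ A ⊓ H := Subgroup.mem_inf.2 ⟨hdiv A hZA h ⟨a, ha, he.symm⟩, hh⟩
      rw [hdisj, Subgroup.mem_bot] at hmem
      rw [Subgroup.mem_bot, ← he, hmem, map_one]
    · intro N hN hNH hNodd
      have hHZ : ∀ h ∈ H, π h = 1 → h = 1 := by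
        intro h hh h1
        have hm : h ∈ A ⊓ H :=
          Subgroup.mem_inf.2 ⟨hZA ((QuotientGroup.eq_one_iff h).1 h1), hh⟩
        rwa [hdisj, Subgroup.mem_bot] at hm
      set M := H ⊓ N.comap π with hM
      have hMn : M.Normal := by
        have := hN.comap π
        infer_instance
      have hmap : M.map π = N := by
        refine le_antisymm ?_ fun q hq => ?_
        · rintro _ ⟨m, hm, rfl⟩
          exact hm.2
        · obtain ⟨h, hh, rfl⟩ := hNH hq
          exact ⟨h, ⟨hh, hq⟩, rfl⟩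
      have hinj : Function.Injective (π.comp M.subtype) := by
        rw [injective_iff_map_eq_one]
        intro m hm
        exact Subtype.ext (hHZ _ m.2.1 hm)
      have hcard : Nat.card M = Nat.card N := by
        rw [← hmap, ← show (π.comp M.subtype).range = M.map π by
            rw [MonoidHom.range_comp, Subgroup.range_subtype],
          Nat.card_congr (MonoidHom.ofInjective hinj).toEquiv]
      rw [← hmap, hcore M hMn inf_le_left (hcard ▸ hNodd), Subgroup.map_bot]

/-- A strongly closed subgroup centralises each core-free subgroup it normalises and meets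
trivially. -/
theorem le_centralizer {G : Type u} [Group G] [Finite G] (S : Sylow 2 G) (A : Subgroup G)
    (hA : Cfsg.IsStronglyClosed A (S : Subgroup G)) (H : Subgroup G)
    (hAH : A ≤ Subgroup.normalizer (H : Set G)) (hO : Cfsg.oddCore ↥H = ⊥) (hdisj : A ⊓ H = ⊥) :
    A ≤ Subgroup.centralizer (H : Set G) := by
  set X := A ⊔ H with hX
  have hAX : A ≤ X := le_sup_left
  have hHX : H ≤ X := le_sup_right
  have hnorm : X ≤ Subgroup.normalizer (H : Set G) := sup_le hAH Subgroup.le_normalizer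
  have hHn : (H.subgroupOf X).Normal := by
    constructor
    intro h hh g
    exact (Subgroup.mem_normalizer_iff.1 (hnorm g.2) _).1 hh
  have hp : IsPGroup 2 (A.subgroupOf X) :=
    (S.2.to_le hA.1).of_equiv (Subgroup.subgroupOfEquivOfLe hAX).symm
  obtain ⟨T, hT⟩ := hp.exists_le_sylow
  obtain ⟨Q, hQ⟩ := (T.2.map X.subtype).exists_le_sylow
  obtain ⟨k, hk⟩ := MulAction.exists_smul_eq G Q S
  have key := commute_aux _ X T (A.subgroupOf X) (H.subgroupOf X) rfl hHn hT ?_ ?_ ?_ ?_
  · intro a ha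
    rw [Subgroup.mem_centralizer_iff]
    intro h hh
    exact (congrArg Subtype.val (key ⟨a, hAX ha⟩ ha ⟨h, hHX hh⟩ hh)).symm
  · intro a ha g hg
    have hkA : ∀ b ∈ A, k * b * k⁻¹ ∈ A := fun b hb =>
      hA.2 b hb k (Elements.smul_mem hk
        (hQ ⟨⟨b, hAX hb⟩, hT (show (⟨b, hAX hb⟩ : X) ∈ A.subgroupOf X from hb), rfl⟩))
    have hconj : k * ((g * a * g⁻¹ : X) : G) * k⁻¹ ∈ A := by
      have h1 : k * ((g * a * g⁻¹ : X) : G) * k⁻¹ ∈ (S : Subgroup G) :=
        Elements.smul_mem hk (hQ ⟨_, hg, rfl⟩)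
      have e : k * ((g * a * g⁻¹ : X) : G) * k⁻¹ = (k * g) * (a : G) * (k * g)⁻¹ := by
        simp [mul_assoc]
      rw [e] at h1 ⊢
      exact hA.2 _ ha _ h1
    have hmap : A.map (MulAut.conj k).toMonoidHom = A := by
      refine Subgroup.eq_of_le_of_card_ge ?_ ?_
      · rintro _ ⟨b, hb, rfl⟩
        exact hkA b hb
      · rw [Subgroup.card_map_of_injective (f := (MulAut.conj k).toMonoidHom) (MulAut.conj k).injective]
    obtain ⟨b, hb, he⟩ := (show k * ((g * a * g⁻¹ : X) : G) * k⁻¹ ∈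
      A.map (MulAut.conj k).toMonoidHom by rw [hmap]; exact hconj)
    have hbe : b = ((g * a * g⁻¹ : X) : G) := (MulAut.conj k).injective he
    exact Subgroup.mem_subgroupOf.2 (hbe ▸ hb)
  · rw [eq_bot_iff]
    intro x hx
    have hx' : (x : G) ∈ A ⊓ H := hx
    rw [hdisj, Subgroup.mem_bot] at hx'
    exact Subgroup.mem_bot.2 (Subtype.ext hx')
  · rw [← Subgroup.subgroupOf_sup hAX hHX, Subgroup.subgroupOf_self]
  · intro N hN hNH hNodd
    have hle : N.map X.subtype ≤ H := by
      rintro _ ⟨n, hn', rfl⟩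
      exact hNH hn'
    set M := (N.map X.subtype).subgroupOf H with hM
    have hMn : M.Normal := by
      constructor
      rintro m ⟨n, hn', hnm⟩ g
      refine ⟨⟨g, hHX g.2⟩ * n * ⟨g, hHX g.2⟩⁻¹, hN.conj_mem n hn' _, ?_⟩
      simp only [Subgroup.coe_subtype] at hnm ⊢
      simp [hnm]
    have hMcard : Nat.card M = Nat.card N := by
      rw [Nat.card_congr (Subgroup.subgroupOfEquivOfLe hle).toEquiv,
        Subgroup.card_map_of_injective X.subtype_injective]
    have hbot : M = ⊥ := le_bot_iff.1 (hO ▸ Elements.le_oddCore (N := M) (hMcard ▸ hNodd))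
    refine Subgroup.eq_bot_of_card_eq N ?_
    rw [← hMcard, hbot, Subgroup.card_bot]

end Cfsg.Agent.Lib.ZStar.StronglyClosed
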