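import Mathlib
import Cfsg.Prelude.Def_CaseTheorems
import Cfsg.Agent.Lib.Cores.Basic

/-!
# Isolated elements of a Sylow 2-subgroup, from the theorem on isolated involutions

The involution theorem (Glauberman) is taken as the hypothesis `InvolutionThm`.
-/

set_option autoImplicit false

namespace Cfsg.Agent.Lib.ZStar.Elements

universe u

/-- The statement of Glauberman's theorem for involutions. -/
def InvolutionThm : Prop :=
  ∀ (G : Type u) [Group G] [Finite G] (P : Sylow 2 G) (t : G), orderOf t = 2 → t ∈ P →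
    (∀ g : G, g * t * g⁻¹ ∈ P → g * t * g⁻¹ = t) →
    ∃ N : Subgroup G, N.Normal ∧ Odd (Nat.card N) ∧ ∀ g : G, t * g * t⁻¹ * g⁻¹ ∈ N

/-- `x` is the only conjugate of itself in `S`. -/
def IsolatedIn {G : Type u} [Group G] (S : Sylow 2 G) (x : G) : Prop :=
  x ∈ S ∧ ∀ g : G, g * x * g⁻¹ ∈ S → g * x * g⁻¹ = x

variable {G : Type u} [Group G] [Finite G]

theorem smul_mem {T S : Sylow 2 G} {h : G} (hh : h • T = S) {a : G} (ha : a ∈ T) :
    h * a * h⁻¹ ∈ S := by
  show h * a * h⁻¹ ∈ (S : Subgroup G)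
  rw [← hh, Sylow.coe_subgroup_smul]
  simpa using Subgroup.smul_mem_pointwise_smul (a := MulAut.conj h) a (T : Subgroup G) ha

omit [Finite G] in
theorem IsolatedIn.commute {S : Sylow 2 G} {x : G} (h : IsolatedIn S x) {s : G} (hs : s ∈ S) :
    Commute s x :=
  mul_inv_eq_iff_eq_mul.1 (h.2 s (mul_mem (mul_mem hs h.1) (inv_mem hs)))

/-- Isolation in every 2-subgroup containing the element. -/
theorem IsolatedIn.eq_of_isPGroup {S : Sylow 2 G} {x : G} (h : IsolatedIn S x) {R : Subgroup G}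
    (hR : IsPGroup 2 R) (hx : x ∈ R) {g : G} (hg : g * x * g⁻¹ ∈ R) : g * x * g⁻¹ = x := by
  obtain ⟨Q, hQ⟩ := hR.exists_le_sylow
  obtain ⟨k, hk⟩ := MulAction.exists_smul_eq G Q S
  have h1 := h.2 k (smul_mem hk (hQ hx))
  have h2 := h.2 (k * g) (by
    have := smul_mem hk (hQ hg)
    rwa [show k * g * x * (k * g)⁻¹ = k * (g * x * g⁻¹) * k⁻¹ by group])
  calc g * x * g⁻¹ = k⁻¹ * (k * g * x * (k * g)⁻¹) * k := by group
    _ = k⁻¹ * (k * x * k⁻¹) * k := by rw [h2, h1]
    _ = x := by group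

/-- Powers of an isolated element are isolated. -/
theorem IsolatedIn.pow {S : Sylow 2 G} {x : G} (h : IsolatedIn S x) (j : ℕ) :
    IsolatedIn S (x ^ j) := by
  refine ⟨pow_mem h.1 j, fun g hg => ?_⟩
  set C := Subgroup.centralizer ({g * x ^ j * g⁻¹} : Set G) with hC
  have hx' : g * x * g⁻¹ ∈ C := by
    rw [hC, Subgroup.mem_centralizer_singleton_iff, ← conj_pow]
    exact ((Commute.refl _).pow_right j).eq
  have hxC : x ∈ C := by
    rw [hC, Subgroup.mem_centralizer_singleton_iff]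
    exact (h.commute hg).eq.symm
  have hp : ∀ a : C, (a : G) ∈ S → IsPGroup 2 (Subgroup.zpowers a) := by
    intro a ha
    obtain ⟨k, hk⟩ := IsPGroup.iff_orderOf.1 S.2 ⟨a, ha⟩
    rw [Subgroup.orderOf_mk, Subgroup.orderOf_coe] at hk
    exact IsPGroup.of_card (n := k) (by rw [Nat.card_zpowers, hk])
  obtain ⟨T, hT⟩ := (hp ⟨x, hxC⟩ h.1).exists_le_sylow
  have hp' : IsPGroup 2 (Subgroup.zpowers (⟨g * x * g⁻¹, hx'⟩ : C)) := by
    obtain ⟨k, hk⟩ := IsPGroup.iff_orderOf.1 S.2 ⟨x, h.1⟩
    rw [Subgroup.orderOf_mk] at hk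
    refine IsPGroup.of_card (n := k) ?_
    rw [Nat.card_zpowers, ← Subgroup.orderOf_coe]
    exact (MulEquiv.orderOf_eq (MulAut.conj g) x).trans hk
  obtain ⟨T', hT'⟩ := hp'.exists_le_sylow
  obtain ⟨c, hc⟩ := MulAction.exists_smul_eq C T' T
  have hmem : (c : G) * g * x * ((c : G) * g)⁻¹ ∈ (T : Subgroup C).map C.subtype := by
    refine ⟨c * ⟨g * x * g⁻¹, hx'⟩ * c⁻¹, ?_, ?_⟩
    · exact smul_mem hc (hT' (Subgroup.mem_zpowers _))
    · show (c : G) * (g * x * g⁻¹) * (c : G)⁻¹ = _
      group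
  have heq := h.eq_of_isPGroup (T.2.map C.subtype)
    ⟨⟨x, hxC⟩, hT (Subgroup.mem_zpowers _), rfl⟩ hmem
  have hcc : (c : G) * (g * x ^ j * g⁻¹) = g * x ^ j * g⁻¹ * c :=
    Subgroup.mem_centralizer_singleton_iff.1 c.2
  calc g * x ^ j * g⁻¹ = (c : G) * (g * x ^ j * g⁻¹) * (c : G)⁻¹ := by
        rw [hcc, mul_inv_cancel_right]
    _ = ((c : G) * g * x * ((c : G) * g)⁻¹) ^ j := by rw [conj_pow]; group
    _ = x ^ j := by rw [heq]

/-- A normal subgroup with cyclic Sylow 2-subgroup of a group with trivial odd core is a cyclic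
2-group: it embeds into its Sylow subgroup. -/
theorem injective_transfer (hO : ∀ N : Subgroup G, N.Normal → Odd (Nat.card N) → N = ⊥)
    (M : Subgroup G) [hMn : M.Normal] (T : Sylow 2 M) [hT : IsCyclic T]
    (h2 : (Nat.card M).minFac = 2) :
    Function.Injective (MonoidHom.transferSylow T (hT.normalizer_le_centralizer h2)) := by
  set φ := MonoidHom.transferSylow T (hT.normalizer_le_centralizer h2) with hφ
  have hnd := MonoidHom.not_dvd_card_ker_transferSylow T (hT.normalizer_le_centralizer h2)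
  have hmemK : ∀ x : M, x ∈ φ.ker ↔ Odd (orderOf x) := by
    intro x
    constructor
    · intro hx
      rw [Nat.odd_iff, ← Nat.two_dvd_ne_zero]
      exact fun h => hnd (h.trans (Subgroup.orderOf_dvd_natCard _ hx))
    · intro hx
      rw [MonoidHom.mem_ker, ← orderOf_eq_one_iff]
      obtain ⟨k, hk⟩ := T.2.exists_card_eq
      have h1 : orderOf (φ x) ∣ 2 ^ k := hk ▸ _root_.orderOf_dvd_natCard _
      exact Nat.eq_one_of_dvd_coprimes
        (Nat.Coprime.pow_left k (Nat.coprime_two_left.mpr hx)) h1 (orderOf_map_dvd φ x)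
  have hK : φ.ker.map M.subtype = ⊥ := by
    refine hO _ ⟨?_⟩ ?_
    · rintro _ ⟨x, hx, rfl⟩ g
      refine ⟨⟨g * (x : G) * g⁻¹, hMn.conj_mem _ x.2 g⟩, (hmemK _).mpr ?_, rfl⟩
      rw [← Subgroup.orderOf_coe]
      show Odd (orderOf (MulAut.conj g (x : G)))
      rw [MulEquiv.orderOf_eq, Subgroup.orderOf_coe]
      exact (hmemK x).mp hx
    · rw [Subgroup.card_subtype, Nat.odd_iff, ← Nat.two_dvd_ne_zero]
      exact hnd
  rw [← MonoidHom.ker_eq_bot_iff, ← Subgroup.map_eq_bot_iff_of_injective _ M.subtype_injective]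
  exact hK

theorem oddCore_odd : Odd (Nat.card (Cfsg.oddCore G)) :=
  Nat.coprime_two_right.1 (Cores.pPrimeCore_coprime 2)

theorem le_oddCore {N : Subgroup G} [N.Normal] (h : Odd (Nat.card N)) : N ≤ Cfsg.oddCore G :=
  Cores.le_pPrimeCore (Nat.coprime_two_right.2 h)

theorem quotient_oddCore (N : Subgroup (G ⧸ Cfsg.oddCore G)) (hN : N.Normal)
    (hodd : Odd (Nat.card N)) : N = ⊥ :=
  le_bot_iff.1 ((le_oddCore hodd).trans (le_of_eq (Cores.pPrimeCore_quotient_pPrimeCore 2)))

/-- The image in a quotient of an isolated element is isolated. -/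
theorem IsolatedIn.map {S : Sylow 2 G} {x : G} (h : IsolatedIn S x) (N : Subgroup G) [N.Normal]
    (hcase : Odd (Nat.card N) ∨ N ≤ (S : Subgroup G)) :
    IsolatedIn (S.mapSurjective (QuotientGroup.mk'_surjective N)) (QuotientGroup.mk' N x) := by
  refine ⟨⟨x, h.1, rfl⟩, fun q hq => ?_⟩
  obtain ⟨g, rfl⟩ := QuotientGroup.mk'_surjective N q
  obtain ⟨s, hs, he⟩ := hq
  rw [← map_inv, ← map_mul, ← map_mul] at he ⊢
  rcases hcase with hodd | hle
  · -- a conjugate inside the coset lies in a 2-subgroup conjugate into `S`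
    set H := (S : Subgroup G) ⊔ N with hH
    have hgH : g * x * g⁻¹ ∈ H := by
      rw [hH]
      have : s⁻¹ * (g * x * g⁻¹) ∈ N := (QuotientGroup.eq).1 he
      rw [show g * x * g⁻¹ = s * (s⁻¹ * (g * x * g⁻¹)) by group]
      exact mul_mem (Subgroup.mem_sup_left hs) (Subgroup.mem_sup_right this)
    have hp : IsPGroup 2 (Subgroup.zpowers (⟨g * x * g⁻¹, hgH⟩ : H)) := by
      obtain ⟨k, hk⟩ := IsPGroup.iff_orderOf.1 S.2 ⟨x, h.1⟩
      rw [Subgroup.orderOf_mk] at hk
      refine IsPGroup.of_card (n := k) ?_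
      rw [Nat.card_zpowers, ← Subgroup.orderOf_coe]
      exact (MulEquiv.orderOf_eq (MulAut.conj g) x).trans hk
    obtain ⟨T, hT⟩ := hp.exists_le_sylow
    obtain ⟨c, hc⟩ := MulAction.exists_smul_eq H T (Sylow.subtype (N := H) S le_sup_left)
    have hm : (c : G) * g * x * ((c : G) * g)⁻¹ ∈ S := by
      have := smul_mem hc (hT (Subgroup.mem_zpowers _))
      have e : ((c * ⟨g * x * g⁻¹, hgH⟩ * c⁻¹ : H) : G) = (c : G) * g * x * ((c : G) * g)⁻¹ := by
        show (c : G) * (g * x * g⁻¹) * (c : G)⁻¹ = _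
        group
      rw [← e]
      exact Subgroup.mem_subgroupOf.1 this
    have heq := h.2 _ hm
    obtain ⟨s', hs', o, ho, hso⟩ := Subgroup.mem_sup_of_normal_right.1
      (show (c : G) ∈ (S : Subgroup G) ⊔ N from c.2)
    have hmko : (QuotientGroup.mk' N) o = 1 := (QuotientGroup.eq_one_iff o).2 ho
    have h3 : (QuotientGroup.mk' N) s' * (QuotientGroup.mk' N) (g * x * g⁻¹) *
        ((QuotientGroup.mk' N) s')⁻¹ = (QuotientGroup.mk' N) x := by
      conv_rhs => rw [← heq, ← hso]
      simp only [map_mul, map_inv, mul_inv_rev, hmko, one_mul, mul_one, inv_one]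
      simp only [mul_assoc]
    have hcomm : Commute ((QuotientGroup.mk' N) s') ((QuotientGroup.mk' N) x) :=
      (h.commute hs').map _
    calc (QuotientGroup.mk' N) (g * x * g⁻¹)
        = ((QuotientGroup.mk' N) s')⁻¹ * (QuotientGroup.mk' N) x * (QuotientGroup.mk' N) s' := by
          rw [← h3]; group
      _ = (QuotientGroup.mk' N) x := by rw [mul_assoc, ← hcomm.eq, ← mul_assoc, inv_mul_cancel, one_mul]
  · have hm : g * x * g⁻¹ ∈ S := by
      have : s⁻¹ * (g * x * g⁻¹) ∈ N := (QuotientGroup.eq).1 he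
      rw [show g * x * g⁻¹ = s * (s⁻¹ * (g * x * g⁻¹)) by group]
      exact mul_mem hs (hle this)
    rw [h.2 g hm]

/-- An isolated element is central modulo the odd core. -/
theorem commutator_mem_oddCore (hZ : InvolutionThm.{u}) :
    ∀ (n : ℕ) (G : Type u) [Group G] [Finite G] (S : Sylow 2 G) (x : G), orderOf x = n →
      IsolatedIn S x → ∀ g : G, x * g * x⁻¹ * g⁻¹ ∈ Cfsg.oddCore G := by
  intro n
  induction n using Nat.strong_induction_on with
  | _ n ih =>
    intro G _ _ S x hn h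
    set O := Cfsg.oddCore G with hOdef
    have hOn : O.Normal := by rw [hOdef]; unfold Cfsg.oddCore; infer_instance
    set q := QuotientGroup.mk' O with hq
    have hb := h.map O (Or.inl (oddCore_odd (G := G)))
    set S₁ := S.mapSurjective (QuotientGroup.mk'_surjective O)
    suffices key : q x ∈ Subgroup.center (G ⧸ O) by
      intro g
      rw [← QuotientGroup.eq_one_iff]
      show q (x * g * x⁻¹ * g⁻¹) = 1
      rw [map_mul, map_mul, map_mul, map_inv, map_inv, ← Subgroup.mem_center_iff.1 key (q g)]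
      group
    by_cases hx1 : q x = 1
    · rw [hx1]; exact one_mem _
    obtain ⟨k, hk⟩ := IsPGroup.iff_orderOf.1 S₁.2 ⟨q x, hb.1⟩
    rw [Subgroup.orderOf_mk] at hk
    obtain ⟨k, rfl⟩ : ∃ j, k = j + 1 := by
      refine ⟨k - 1, ?_⟩
      have : k ≠ 0 := fun h0 => hx1 (orderOf_eq_one_iff.1 (by rw [hk, h0, pow_zero]))
      omega
    have hle : orderOf (q x) ≤ n :=
      hn ▸ Nat.le_of_dvd (orderOf_pos x) (orderOf_map_dvd q x)
    set t := (q x) ^ 2 ^ k with ht
    have ht2 : orderOf t = 2 := by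
      rw [ht, orderOf_pow' _ (by positivity), hk, Nat.gcd_eq_right (pow_dvd_pow 2 (by omega)),
        Nat.pow_div (by omega) two_pos, show k + 1 - k = 1 by omega, pow_one]
    obtain ⟨N, hNn, hNodd, hN⟩ := hZ _ S₁ t ht2 (hb.pow _).1 (hb.pow _).2
    have hNb := quotient_oddCore N hNn hNodd
    have htc : t ∈ Subgroup.center (G ⧸ O) := by
      rw [Subgroup.mem_center_iff]
      intro a
      have := hN a
      rw [hNb, Subgroup.mem_bot, mul_inv_eq_one] at this
      exact (mul_inv_eq_iff_eq_mul.1 this).symm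
    set W := Subgroup.zpowers t with hW
    have hWc : W ≤ Subgroup.center (G ⧸ O) := Subgroup.zpowers_le.2 htc
    have hWn : W.Normal := ⟨fun w hw a => by
      rw [Subgroup.mem_center_iff.1 (hWc hw) a, mul_inv_cancel_right]; exact hw⟩
    have hWS : W ≤ (S₁ : Subgroup (G ⧸ O)) := Subgroup.zpowers_le.2 (hb.pow _).1
    set p := QuotientGroup.mk' W with hp
    have hlt : orderOf (p (q x)) < n := by
      have h1 : p (q x) ^ 2 ^ k = 1 := by
        rw [← map_pow, ← ht]; exact (QuotientGroup.eq_one_iff t).2 (Subgroup.mem_zpowers t)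
      have h2 := Nat.le_of_dvd (by positivity) (orderOf_dvd_of_pow_eq_one h1)
      have h3 : 2 ^ k < 2 ^ (k + 1) := Nat.pow_lt_pow_right (by norm_num) (by omega)
      omega
    have hrec := ih _ hlt _ _ (p (q x)) rfl (hb.map W (Or.inr hWS))
    -- the preimage of the odd core of the second quotient is `W`
    set M := (Cfsg.oddCore ((G ⧸ O) ⧸ W)).comap p with hM
    have hMn : M.Normal := by
      rw [hM]; unfold Cfsg.oddCore; infer_instance
    have hWM : W ≤ M := fun w hw => by
      rw [hM, Subgroup.mem_comap, hp, QuotientGroup.mk'_apply, (QuotientGroup.eq_one_iff w).2 hw]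
      exact one_mem _
    have hMcard : Nat.card M = 2 * Nat.card (Cfsg.oddCore ((G ⧸ O) ⧸ W)) := by
      have h1 := Subgroup.card_mul_index (W.subgroupOf M)
      rw [Nat.card_congr (Subgroup.subgroupOfEquivOfLe hWM).toEquiv, hW, Nat.card_zpowers, ht2] at h1
      rw [← h1, ← hW]
      congr 1
      show W.relIndex M = _
      have h2 := Subgroup.relIndex_comap (⊥ : Subgroup ((G ⧸ O) ⧸ W)) p M
      rw [MonoidHom.comap_bot, hp, QuotientGroup.ker_mk', ← hp, hM,
        Subgroup.map_comap_eq_self_of_surjective (QuotientGroup.mk'_surjective W),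
        Subgroup.relIndex_bot_left] at h2
      rw [hM]; exact h2
    obtain ⟨T⟩ := (inferInstance : Nonempty (Sylow 2 M))
    have hTcard : Nat.card T = 2 := by
      rw [T.card_eq_multiplicity, hMcard, Nat.factorization_mul two_ne_zero (Nat.card_pos.ne'),
        Finsupp.add_apply, Nat.prime_two.factorization_self,
        Nat.factorization_eq_zero_of_not_dvd (Nat.two_dvd_ne_zero.2 (Nat.odd_iff.1 oddCore_odd))]
      norm_num
    have hTcyc : IsCyclic T := isCyclic_of_prime_card hTcard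
    have hmin : (Nat.card M).minFac = 2 := by
      rw [Nat.minFac_eq_two_iff, hMcard]; exact dvd_mul_right _ _
    have hinj := injective_transfer (quotient_oddCore (G := G)) M T hmin
    have hMW : M = W := by
      refine (Subgroup.eq_of_le_of_card_ge hWM ?_).symm
      rw [hW, Nat.card_zpowers, ht2, ← hTcard]
      exact Nat.card_le_card_of_injective _ hinj
    rw [Subgroup.mem_center_iff]
    intro a
    have hmem : q x * a * (q x)⁻¹ * a⁻¹ ∈ M := by
      rw [hM, Subgroup.mem_comap]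
      simpa using hrec (p a)
    rw [hMW] at hmem
    have hconj : a * q x * a⁻¹ ∈ S₁ := by
      have : a * q x * a⁻¹ = (q x * a * (q x)⁻¹ * a⁻¹)⁻¹ * q x := by group
      rw [this]
      exact mul_mem (inv_mem (hWS hmem)) hb.1
    exact mul_inv_eq_iff_eq_mul.1 (hb.2 a hconj)

end Cfsg.Agent.Lib.ZStar.Elements
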