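import Mathlib
import Cfsg.Prelude.Def_TwoFusion
import Cfsg.Prelude.Def_FusionSystem
import Cfsg.Agent.Lib.ZStar.Elements
import Cfsg.Agent.Lib.IsolatedInvolution.Basic

/-!
# Consequences of Glauberman's theorem on isolated involutions
-/

set_option autoImplicit false

namespace Cfsg.Agent.Lib.ZStar.Consequences

open Cfsg.Agent.Lib.ZStar.Elements

universe u

variable {G : Type u} [Group G] [Finite G]

theorem isolatedIn_of_involution {z : G} (hz : Cfsg.IsIsolatedInvolution z) (P : Sylow 2 G)
    (hzP : z ∈ P) : IsolatedIn P z := by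
  refine ⟨hzP, fun g hg => ?_⟩
  have hodd := IsolatedInvolution.Basic.odd_orderOf_mul hz (IsConj.refl z)
    (isConj_iff.2 ⟨g, rfl⟩)
  obtain ⟨k, hk⟩ := IsPGroup.iff_orderOf.1 P.2 ⟨z * (g * z * g⁻¹), mul_mem hzP hg⟩
  rw [Subgroup.orderOf_mk] at hk
  rw [hk] at hodd
  rcases Nat.eq_zero_or_pos k with rfl | hk0
  · have h1 : z * (g * z * g⁻¹) = 1 := orderOf_eq_one_iff.1 (by simpa using hk)
    have hzz : z * z = 1 := by rw [← sq, ← hz.1, pow_orderOf_eq_one]
    exact mul_left_cancel (h1.trans hzz.symm)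
  · exact absurd (even_two.pow_of_ne_zero (by omega)) (Nat.not_even_iff_odd.2 hodd)

/-- The theorem on isolated involutions, commutator form. -/
theorem isolated_commutator_mem (hZ : InvolutionThm.{u}) {z : G}
    (hz : Cfsg.IsIsolatedInvolution z) (g : G) : z * g * z⁻¹ * g⁻¹ ∈ Cfsg.oddCore G := by
  have hp : IsPGroup 2 (Subgroup.zpowers z) :=
    IsPGroup.of_card (n := 1) (by rw [Nat.card_zpowers, hz.1, pow_one])
  obtain ⟨P, hP⟩ := hp.exists_le_sylow
  exact commutator_mem_oddCore hZ _ G P z rfl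
    (isolatedIn_of_involution hz P (hP (Subgroup.mem_zpowers z))) g

/-- The centre of the fusion system. -/
theorem fusion_center (hZ : InvolutionThm.{u}) (S : Sylow 2 G) :
    (Cfsg.groupFusionSystem (S : Subgroup G)).center = (S : Subgroup G) ⊓
      (Subgroup.center (G ⧸ Cfsg.oddCore G)).comap (QuotientGroup.mk' (Cfsg.oddCore G)) := by
  set O := Cfsg.oddCore G with hOdef
  have hOn : O.Normal := by rw [hOdef]; unfold Cfsg.oddCore; infer_instance
  set q := QuotientGroup.mk' O with hq
  set Z := (S : Subgroup G) ⊓ (Subgroup.center (G ⧸ O)).comap q with hZdef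
  have hSO : ∀ a : G, a ∈ S → a ∈ O → a = 1 := by
    intro a ha hao
    obtain ⟨k, hk⟩ := IsPGroup.iff_orderOf.1 S.2 ⟨a, ha⟩
    rw [Subgroup.orderOf_mk] at hk
    rw [← orderOf_eq_one_iff]
    exact Nat.eq_one_of_dvd_coprimes
      (Nat.Coprime.pow_left k (Nat.coprime_two_left.mpr (oddCore_odd (G := G))))
      (dvd_of_eq hk) (Subgroup.orderOf_dvd_natCard O hao)
  apply le_antisymm
  · refine sSup_le fun Q hQ => fun x hx => ⟨hQ.1 hx, ?_⟩
    have hxS : x ∈ (S : Subgroup G) := hQ.1 hx
    have hiso : IsolatedIn S x := by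
      refine ⟨hxS, fun g hg => ?_⟩
      have hzl : Subgroup.zpowers x ≤ (S : Subgroup G) := Subgroup.zpowers_le.2 hxS
      let φ : Subgroup.zpowers x →* G :=
        (MulAut.conj g).toMonoidHom.comp (Subgroup.zpowers x).subtype
      have hφ : φ ∈ (Cfsg.groupFusionSystem (S : Subgroup G)).Hom (Subgroup.zpowers x) := by
        refine ⟨hzl, fun y => ?_, g, fun y => rfl⟩
        obtain ⟨i, hi⟩ := Subgroup.mem_zpowers_iff.1 y.2
        show g * (y : G) * g⁻¹ ∈ (S : Subgroup G)
        rw [← hi, ← conj_zpow]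
        exact zpow_mem hg i
      obtain ⟨ψ, -, hψ₁, hψ₂⟩ := hQ.2 _ φ hφ
      have h1 := hψ₁ ⟨x, Subgroup.mem_zpowers x⟩
      have h2 := hψ₂ ⟨x, hx⟩
      exact h1.symm.trans h2
    show q x ∈ Subgroup.center (G ⧸ O)
    rw [Subgroup.mem_center_iff]
    intro a
    obtain ⟨g, rfl⟩ := QuotientGroup.mk'_surjective O a
    have h := (QuotientGroup.eq_one_iff _).2 (commutator_mem_oddCore hZ _ G S x rfl hiso g)
    change q (x * g * x⁻¹ * g⁻¹) = 1 at h
    rw [map_mul, map_mul, map_mul, map_inv, map_inv, mul_inv_eq_one, mul_inv_eq_iff_eq_mul] at h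
    exact h.symm
  · refine le_sSup ⟨inf_le_left, fun P φ hφ => ?_⟩
    obtain ⟨hPS, hφS, g, hg⟩ := hφ
    -- `Z` is central in `S`
    have hZc : ∀ z ∈ Z, ∀ a : G, q a * q z = q z * q a := fun z hz a =>
      Subgroup.mem_center_iff.1 hz.2 (q a)
    have hZS : ∀ z ∈ Z, ∀ s ∈ (S : Subgroup G), s * z = z * s := by
      intro z hz s hs
      have h1 : s * z * s⁻¹ * z⁻¹ = 1 := by
        refine hSO _ (mul_mem (mul_mem (mul_mem hs hz.1) (inv_mem hs)) (inv_mem hz.1)) ?_
        rw [← QuotientGroup.eq_one_iff]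
        show q _ = 1
        rw [map_mul, map_mul, map_mul, map_inv, map_inv, hZc z hz s]
        group
      exact mul_inv_eq_iff_eq_mul.1 (mul_inv_eq_one.1 h1)
    set R : Subgroup G := P.map (MulAut.conj g).toMonoidHom with hR
    have hRS : R ≤ (S : Subgroup G) := by
      rintro _ ⟨p, hp, rfl⟩
      have := hφS ⟨p, hp⟩
      rw [hg] at this
      exact this
    -- the subgroup in which `Z` and its conjugate are Sylow subgroups
    set W : Subgroup G := (Z ⊔ O) ⊓ Subgroup.centralizer (R : Set G) with hW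
    have hZW : Z ≤ W := fun z hz => ⟨Subgroup.mem_sup_left hz, Subgroup.mem_centralizer_iff.2
      fun r hr => hZS z hz r (hRS hr)⟩
    set Z' : Subgroup G := Z.map (MulAut.conj g).toMonoidHom with hZ'
    have hZ'W : Z' ≤ W := by
      rintro _ ⟨z, hz, rfl⟩
      refine ⟨?_, Subgroup.mem_centralizer_iff.2 ?_⟩
      · show g * z * g⁻¹ ∈ Z ⊔ O
        have : g * z * g⁻¹ * z⁻¹ ∈ O := by
          rw [← QuotientGroup.eq_one_iff]
          show q _ = 1
          rw [map_mul, map_mul, map_mul, map_inv, map_inv, hZc z hz g]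
          group
        rw [show g * z * g⁻¹ = g * z * g⁻¹ * z⁻¹ * z by group]
        exact mul_mem (Subgroup.mem_sup_right this) (Subgroup.mem_sup_left hz)
      · rintro _ ⟨p, hp, rfl⟩
        show g * p * g⁻¹ * (g * z * g⁻¹) = g * z * g⁻¹ * (g * p * g⁻¹)
        calc g * p * g⁻¹ * (g * z * g⁻¹) = g * (p * z) * g⁻¹ := by group
          _ = g * (z * p) * g⁻¹ := by rw [hZS z hz p (hPS hp)]
          _ = g * z * g⁻¹ * (g * p * g⁻¹) := by group
    have hidx : ¬ 2 ∣ Z.relIndex W := by
      intro h2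
      have h3 : Z.relIndex W ∣ Z.relIndex (Z ⊔ O) :=
        Dvd.intro _ (Subgroup.relIndex_mul_relIndex Z W (Z ⊔ O) hZW inf_le_left)
      have h4 : Z.relIndex (Z ⊔ O) ∣ Nat.card O := by
        have h5 := Subgroup.relIndex_mul_relIndex (⊥ : Subgroup G) Z (Z ⊔ O) bot_le le_sup_left
        rw [Subgroup.relIndex_bot_left, Subgroup.relIndex_bot_left] at h5
        exact Nat.dvd_of_mul_dvd_mul_left Nat.card_pos (h5 ▸ Cores.card_sup_dvd_mul Z O)
      have h4 := (h2.trans h3).trans h4
      exact Nat.two_dvd_ne_zero.2 (Nat.odd_iff.1 (oddCore_odd (G := G))) h4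
    have hZp : IsPGroup 2 Z := S.2.to_le inf_le_left
    have hZ'p : IsPGroup 2 Z' := hZp.map _
    have hT : IsPGroup 2 (Z.subgroupOf W) := hZp.comap_subtype
    have hT' : IsPGroup 2 (Z'.subgroupOf W) := hZ'p.comap_subtype
    let T : Sylow 2 W := hT.toSylow hidx
    obtain ⟨T', hT'le⟩ := hT'.exists_le_sylow
    obtain ⟨c, hc⟩ := MulAction.exists_smul_eq W T' T
    -- the conjugating element fixing `Z`
    have hfix : ∀ z ∈ Z, (c : G) * g * z * ((c : G) * g)⁻¹ = z := by
      intro z hz
      have hm := smul_mem hc (hT'le (Subgroup.mem_subgroupOf.2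
        (show (⟨g * z * g⁻¹, hZ'W ⟨z, hz, rfl⟩⟩ : W).1 ∈ Z' from ⟨z, hz, rfl⟩)))
      have hm' : (c : G) * g * z * ((c : G) * g)⁻¹ ∈ Z := by
        have : (c : G) * (g * z * g⁻¹) * (c : G)⁻¹ ∈ Z := hm
        rwa [show (c : G) * g * z * ((c : G) * g)⁻¹ = (c : G) * (g * z * g⁻¹) * (c : G)⁻¹ by group]
      refine mul_inv_eq_one.1 (hSO _ (mul_mem hm'.1 (inv_mem hz.1)) ?_)
      rw [← QuotientGroup.eq_one_iff]
      show q ((c : G) * g * z * ((c : G) * g)⁻¹ * z⁻¹) = 1
      rw [map_mul, map_mul (f := q) ((c : G) * g * z), map_mul (f := q) ((c : G) * g), map_inv,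
        map_inv, hZc z hz ((c : G) * g)]
      group
    have hagree : ∀ p ∈ P, (c : G) * g * p * ((c : G) * g)⁻¹ = g * p * g⁻¹ := by
      intro p hp
      have h := Subgroup.mem_centralizer_iff.1 c.2.2 (g * p * g⁻¹) ⟨p, hp, rfl⟩
      calc (c : G) * g * p * ((c : G) * g)⁻¹ = (c : G) * (g * p * g⁻¹) * (c : G)⁻¹ := by group
        _ = g * p * g⁻¹ := by rw [← h, mul_inv_cancel_right]
    refine ⟨(MulAut.conj ((c : G) * g)).toMonoidHom.comp (P ⊔ Z).subtype,
      ⟨sup_le hPS inf_le_left, fun y => ?_, _, fun y => rfl⟩, fun x => ?_, fun z => hfix z z.2⟩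
    · have hle : P ⊔ Z ≤ (S : Subgroup G).comap (MulAut.conj ((c : G) * g)).toMonoidHom := by
        refine sup_le (fun p hp => ?_) (fun z hz => ?_)
        · show (c : G) * g * p * ((c : G) * g)⁻¹ ∈ (S : Subgroup G)
          rw [hagree p hp]
          exact hRS ⟨p, hp, rfl⟩
        · show (c : G) * g * z * ((c : G) * g)⁻¹ ∈ (S : Subgroup G)
          rw [hfix z hz]
          exact hz.1
      exact hle y.2
    · show (c : G) * g * (x : G) * ((c : G) * g)⁻¹ = φ x
      rw [hg, hagree x x.2]

/-- With an abelian Sylow 2-subgroup and trivial odd core and centre, a 2-automorphism centralising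
a Sylow 2-subgroup is inner. -/
theorem inner_of_fixes_sylow (hZ : InvolutionThm.{u}) (hZG : Subgroup.center G = ⊥)
    (hcore : ∀ N : Subgroup G, N.Normal → Odd (Nat.card N) → N = ⊥) (P : Sylow 2 G)
    (hab : ∀ a ∈ P, ∀ b ∈ P, a * b = b * a) (α : MulAut G) (h2 : ∃ j : ℕ, orderOf α = 2 ^ j)
    (hfix : ∀ x ∈ P, α x = x) : ∃ g : G, ∀ x : G, α x = g * x * g⁻¹ := by
  classical
  obtain ⟨j, hj⟩ := h2
  set A := Subgroup.zpowers α with hA
  have hAp : IsPGroup 2 A := IsPGroup.of_card (n := j) (by rw [Nat.card_zpowers, hj])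
  have : Finite (SemidirectProduct G A A.subtype) := Finite.of_equiv _ SemidirectProduct.equivProd.symm
  have hAfix : ∀ a : A, ∀ x ∈ P, (a : MulAut G) x = x := by
    intro a x hx
    have hle : A ≤ MulAction.stabilizer (MulAut G) x :=
      Subgroup.zpowers_le.2 (show α • x = x from hfix x hx)
    exact hle a.2
  have hcomm : ∀ (p : (P : Subgroup G)) (a : A),
      Commute ((SemidirectProduct.inl : G →* (SemidirectProduct G A A.subtype)).comp (P : Subgroup G).subtype p)
        ((SemidirectProduct.inr : A →* (SemidirectProduct G A A.subtype)) a) := by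
    intro p a
    refine SemidirectProduct.ext ?_ ?_
    · simp [hAfix a p p.2]
    · simp
  let f : ↥(P : Subgroup G) × ↥A →* (SemidirectProduct G A A.subtype) := MonoidHom.noncommCoprod _ _ hcomm
  have hf : ∀ p a, f (p, a) = SemidirectProduct.inl (p : G) * SemidirectProduct.inr a :=
    fun p a => rfl
  have hfinj : Function.Injective f := by
    intro x y h
    obtain ⟨p, a⟩ := x
    obtain ⟨p', a'⟩ := y
    rw [hf, hf] at h
    have h1 := congrArg SemidirectProduct.left h
    have h2' := congrArg SemidirectProduct.right h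
    simp at h1 h2'
    exact Prod.ext h1 h2'
  set Q : Subgroup (SemidirectProduct G A A.subtype) := f.range with hQ
  obtain ⟨i, hi⟩ := IsPGroup.iff_card.1 P.2
  have hQcard : Nat.card Q = 2 ^ (Nat.card (SemidirectProduct G A A.subtype)).factorization 2 := by
    rw [hQ, Nat.card_congr (MonoidHom.ofInjective hfinj).toEquiv.symm, Nat.card_prod,
      SemidirectProduct.card, Nat.factorization_mul Nat.card_pos.ne' Nat.card_pos.ne',
      Finsupp.add_apply, pow_add, P.card_eq_multiplicity, hA, Nat.card_zpowers, hj,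
      Nat.prime_two.factorization_pow, Finsupp.single_eq_same]
  let T : Sylow 2 (SemidirectProduct G A A.subtype) := Sylow.ofCard Q hQcard
  have hTQ : (T : Subgroup (SemidirectProduct G A A.subtype)) = Q := Sylow.coe_ofCard Q hQcard
  have hcomQ : ∀ x ∈ (T : Subgroup (SemidirectProduct G A A.subtype)), ∀ y ∈ (T : Subgroup (SemidirectProduct G A A.subtype)), x * y = y * x := by
    rw [hTQ]
    rintro _ ⟨⟨p, a⟩, rfl⟩ _ ⟨⟨p', a'⟩, rfl⟩
    rw [← map_mul, ← map_mul]
    congr 1
    refine Prod.ext (Subtype.ext (hab _ p.2 _ p'.2)) (Subtype.ext ?_)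
    obtain ⟨u₁, hu⟩ := Subgroup.mem_zpowers_iff.1 a.2
    obtain ⟨v₁, hv⟩ := Subgroup.mem_zpowers_iff.1 a'.2
    show (a : MulAut G) * a' = a' * a
    rw [← hu, ← hv, ← zpow_add, ← zpow_add, add_comm]
  set NT := Subgroup.normalizer ((T : Subgroup (SemidirectProduct G A A.subtype)) : Set (SemidirectProduct G A A.subtype)) with hNT
  let θ : NT →* MulAut (T : Subgroup (SemidirectProduct G A A.subtype)) := Subgroup.normalizerMonoidHom (T : Subgroup (SemidirectProduct G A A.subtype))
  have hθodd : Odd (Nat.card θ.range) := by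
    have h1 : (T : Subgroup (SemidirectProduct G A A.subtype)).subgroupOf NT ≤ θ.ker := by
      intro x hx
      rw [Subgroup.normalizerMonoidHom_ker]
      exact Subgroup.mem_centralizer_iff.2 fun y hy => hcomQ y hy x hx
    have h3 := Subgroup.index_dvd_of_le h1
    rw [Subgroup.index_ker] at h3
    rw [Nat.odd_iff, ← Nat.two_dvd_ne_zero]
    intro h
    have := (Sylow.subtype (N := NT) T Subgroup.le_normalizer).not_dvd_index
    rw [Sylow.coe_subtype] at this
    exact this (h.trans h3)
  let _ : CommGroup (T : Subgroup (SemidirectProduct G A A.subtype)) :=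
    { (inferInstance : Group (T : Subgroup (SemidirectProduct G A A.subtype))) with
      mul_comm := fun a b => Subtype.ext (hcomQ a a.2 b b.2) }
  have : Fintype θ.range := Fintype.ofFinite _
  have haT : SemidirectProduct.inr ⟨α, Subgroup.mem_zpowers α⟩ ∈ (T : Subgroup (SemidirectProduct G A A.subtype)) := by
    rw [hTQ]
    exact ⟨(1, ⟨α, Subgroup.mem_zpowers α⟩), by rw [hf]; simp⟩
  set a₀ : (T : Subgroup (SemidirectProduct G A A.subtype)) := ⟨_, haT⟩
  set c : (T : Subgroup (SemidirectProduct G A A.subtype)) := ∏ r : θ.range, (r : MulAut (T : Subgroup (SemidirectProduct G A A.subtype))) a₀ with hc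
  have hcfix : ∀ m : (SemidirectProduct G A A.subtype), m ∈ NT → m * (c : (SemidirectProduct G A A.subtype)) * m⁻¹ = c := by
    intro m hm
    have : θ ⟨m, hm⟩ c = c := by
      rw [hc, map_prod]
      exact Fintype.prod_equiv (Equiv.mulLeft ⟨θ ⟨m, hm⟩, ⟨_, rfl⟩⟩) _ _ fun r => rfl
    exact congrArg Subtype.val this
  have hiso : IsolatedIn T (c : (SemidirectProduct G A A.subtype)) := by
    refine ⟨c.2, fun g hg => ?_⟩
    obtain ⟨m, hm, hm'⟩ := Sylow.conj_eq_normalizer_conj_of_mem (_hP := ⟨⟨fun u v => Subtype.ext (hcomQ u u.2 v v.2)⟩⟩) T (c : (SemidirectProduct G A A.subtype)) g⁻¹ c.2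
      (by rwa [inv_inv])
    simp only [inv_inv] at hm'
    rw [hm']
    simpa using hcfix m⁻¹ (inv_mem hm)
  have hCore : ∀ N : Subgroup (SemidirectProduct G A A.subtype), N.Normal → Odd (Nat.card N) → N = ⊥ := by
    intro N hN hodd
    have hr : N ≤ (SemidirectProduct.rightHom : (SemidirectProduct G A A.subtype) →* A).ker := by
      intro x hx
      obtain ⟨k, hk⟩ := IsPGroup.iff_orderOf.1 hAp (SemidirectProduct.rightHom x)
      rw [MonoidHom.mem_ker, ← orderOf_eq_one_iff]
      exact Nat.eq_one_of_dvd_coprimes (Nat.Coprime.pow_left k (Nat.coprime_two_left.mpr hodd))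
        (dvd_of_eq hk) ((orderOf_map_dvd _ x).trans (Subgroup.orderOf_dvd_natCard N hx))
    rw [← SemidirectProduct.range_inl_eq_ker_rightHom] at hr
    have h0 := hcore (N.comap (SemidirectProduct.inl : G →* (SemidirectProduct G A A.subtype))) inferInstance ?_
    · rw [← Subgroup.map_comap_eq_self hr, h0, Subgroup.map_bot]
    · rwa [Nat.card_congr ((Subgroup.equivMapOfInjective _ _
        SemidirectProduct.inl_injective).toEquiv.trans (Equiv.setCongr
          (congrArg (fun K : Subgroup (SemidirectProduct G A A.subtype) => (K : Set (SemidirectProduct G A A.subtype))) (Subgroup.map_comap_eq_self hr))))]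
  have hcen : ∀ x : (SemidirectProduct G A A.subtype), (c : (SemidirectProduct G A A.subtype)) * x = x * (c : (SemidirectProduct G A A.subtype)) := by
    intro x
    have h := commutator_mem_oddCore hZ _ (SemidirectProduct G A A.subtype) T (c : (SemidirectProduct G A A.subtype)) rfl hiso x
    rw [hCore (Cfsg.oddCore (SemidirectProduct G A A.subtype)) (by unfold Cfsg.oddCore; infer_instance) oddCore_odd,
      Subgroup.mem_bot, mul_inv_eq_one, mul_inv_eq_iff_eq_mul] at h
    exact h
  -- `c` lies over an odd power of `α`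
  have hright : (SemidirectProduct.rightHom (c : (SemidirectProduct G A A.subtype)) : A) =
      ⟨α, Subgroup.mem_zpowers α⟩ ^ Nat.card θ.range := by
    let _ : CommGroup A :=
      { (inferInstance : Group A) with
        mul_comm := fun a b => by
          obtain ⟨u₁, hu⟩ := Subgroup.mem_zpowers_iff.1 a.2
          obtain ⟨v₁, hv⟩ := Subgroup.mem_zpowers_iff.1 b.2
          exact Subtype.ext (by
            show (a : MulAut G) * b = b * a
            rw [← hu, ← hv, ← zpow_add, ← zpow_add, add_comm]) }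
    have key : ∀ r : θ.range, SemidirectProduct.rightHom (((r : MulAut (T : Subgroup (SemidirectProduct G A A.subtype))) a₀ : (T : Subgroup (SemidirectProduct G A A.subtype))) : (SemidirectProduct G A A.subtype)) =
        (⟨α, Subgroup.mem_zpowers α⟩ : A) := by
      rintro ⟨_, ⟨m, rfl⟩⟩
      show SemidirectProduct.rightHom ((m : (SemidirectProduct G A A.subtype)) * (a₀ : (SemidirectProduct G A A.subtype)) * (m : (SemidirectProduct G A A.subtype))⁻¹) = _
      rw [map_mul, map_mul, map_inv, mul_comm (SemidirectProduct.rightHom (m : (SemidirectProduct G A A.subtype))),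
        mul_inv_cancel_right]
      simp [a₀]
    show ((SemidirectProduct.rightHom : (SemidirectProduct G A A.subtype) →* A).comp (T : Subgroup (SemidirectProduct G A A.subtype)).subtype) c = _
    rw [hc, map_prod]
    refine (Finset.prod_congr rfl fun r _ => key r).trans ?_
    rw [Finset.prod_const, Finset.card_univ, Nat.card_eq_fintype_card]
  set β := (SemidirectProduct.rightHom (c : (SemidirectProduct G A A.subtype)) : A) with hβ
  have hinner : ∀ x : G, (β : MulAut G) x = ((c : (SemidirectProduct G A A.subtype)).left)⁻¹ * x * (c : (SemidirectProduct G A A.subtype)).left := by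
    intro x
    have h := congrArg SemidirectProduct.left (hcen (SemidirectProduct.inl x))
    simp at h
    rw [mul_assoc, ← h]
    simp [hβ]
  have hβ' : (β : MulAut G) ∈ (MulAut.conj : G →* MulAut G).range := by
    refine ⟨((c : (SemidirectProduct G A A.subtype)).left)⁻¹, MulEquiv.ext fun x => ?_⟩
    rw [hinner, MulAut.conj_apply, inv_inv]
  obtain ⟨s, hs⟩ := exists_pow_eq_self_of_coprime (x := α) (n := Nat.card θ.range)
    (by rw [hj]; exact Nat.Coprime.pow_right j (Nat.coprime_two_right.mpr hθodd))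
  have hα : α ∈ (MulAut.conj : G →* MulAut G).range := by
    rw [← hs]
    refine pow_mem ?_ s
    rw [hright] at hβ'
    simpa using hβ'
  obtain ⟨g, hg⟩ := hα
  exact ⟨g, fun x => by rw [← hg, MulAut.conj_apply]⟩

end Cfsg.Agent.Lib.ZStar.Consequences
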