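import Cfsg.Agent.Lib.ZStar.UniqueCase
import Cfsg.Agent.Lib.Involutions.Isolated
import Mathlib.GroupTheory.SpecificGroups.KleinFour

/-!
# Groups of `2`-rank one
-/

set_option autoImplicit false

namespace Cfsg.Agent.Lib.ZStar.RankOne

open Cfsg.Agent.Lib.Involutions.Basic

universe u

variable {G : Type u} [Group G]

/-- Two distinct commuting involutions lie in a Klein four-subgroup. -/
theorem exists_klein {c y : G} (hc : orderOf c = 2) (hy : orderOf y = 2) (hne : c ≠ y)
    (hcy : Commute c y) : ∃ E : Subgroup G, IsKleinFour E := by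
  classical
  have hcc := invol_mul_self hc
  have hyy := invol_mul_self hy
  have hyc : y * c = c * y := hcy.eq.symm
  have hc1 : ∀ a : G, c * (c * a) = a := fun a => by rw [← mul_assoc, hcc, one_mul]
  have hy1 : ∀ a : G, y * (y * a) = a := fun a => by rw [← mul_assoc, hyy, one_mul]
  have hyc1 : ∀ a : G, y * (c * a) = c * (y * a) := fun a => by
    rw [← mul_assoc, hyc, mul_assoc]
  let E : Subgroup G :=
    { carrier := {g | g = 1 ∨ g = c ∨ g = y ∨ g = c * y}
      one_mem' := Or.inl rfl
      mul_mem' := by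
        rintro a b (rfl | rfl | rfl | rfl) (rfl | rfl | rfl | rfl) <;>
          simp [mul_assoc, hcc, hyy, hyc, hc1, hy1, hyc1]
      inv_mem' := by
        rintro a (rfl | rfl | rfl | rfl) <;>
          simp [invol_inv hc, invol_inv hy, hyc] }
  have hcard : Nat.card E = 4 := by
    have hset : (E : Set G) = (({1, c, y, c * y} : Finset G) : Set G) := by
      ext g
      simp [E]
    have hcy1 : c * y ≠ 1 := fun h => hne (by
      rw [← invol_inv hc]; exact (inv_eq_of_mul_eq_one_right h))
    have hcne : c ≠ c * y := fun h => invol_ne_one hy (mul_eq_left.1 h.symm)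
    have hyne : y ≠ c * y := fun h => invol_ne_one hc (mul_eq_right.1 h.symm)
    change Nat.card (E : Set G) = 4
    rw [hset, Nat.card_coe_set_eq, Set.ncard_coe_finset, Finset.card_insert_of_notMem, Finset.card_insert_of_notMem,
      Finset.card_insert_of_notMem, Finset.card_singleton] <;>
      simp [Ne.symm (invol_ne_one hc), Ne.symm (invol_ne_one hy), Ne.symm hcy1, hne, hcne, hyne]
  have hsq : ∀ g ∈ E, g * g = 1 := by
    rintro g (rfl | rfl | rfl | rfl) <;> simp [mul_assoc, hcc, hyy, hyc, hc1, hy1, hyc1]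
  refine ⟨E, ⟨hcard, ?_⟩⟩
  have : Finite E := Nat.finite_of_card_ne_zero (by omega)
  have : Nontrivial E := Finite.one_lt_card_iff_nontrivial.mp (by omega)
  have : Fact (Nat.Prime 2) := ⟨Nat.prime_two⟩
  rw [Monoid.exponent_eq_prime_iff Nat.prime_two]
  exact fun g hg => orderOf_eq_prime (by rw [pow_two]; exact Subtype.ext (hsq g g.2)) hg

variable [Finite G]

/-- Without four-subgroups a `2`-subgroup has at most one involution. -/
theorem eq_of_no_klein (hrank : ∀ E : Subgroup G, ¬ IsKleinFour E) {P : Subgroup G}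
    (hP : IsPGroup 2 P) {x y : G} (hx : x ∈ P) (hy : y ∈ P) (hxo : orderOf x = 2)
    (hyo : orderOf y = 2) : x = y := by
  have hne : Nontrivial P :=
    ⟨⟨⟨x, hx⟩, 1, fun h => invol_ne_one hxo (congrArg Subtype.val h)⟩⟩
  have hcn : Nontrivial (Subgroup.center P) := hP.center_nontrivial
  obtain ⟨m, hm0, hm⟩ := (hP.to_subgroup _).nontrivial_iff_card.1 hcn
  obtain ⟨z, hz⟩ := exists_prime_orderOf_dvd_card' 2
    (hm ▸ dvd_pow_self 2 (by omega) : 2 ∣ Nat.card (Subgroup.center P))
  have hz' : orderOf ((z : P) : G) = 2 := by rw [Subgroup.orderOf_coe, Subgroup.orderOf_coe, hz]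
  have key : ∀ w ∈ P, orderOf w = 2 → w = ((z : P) : G) := by
    intro w hw hwo
    by_contra hne'
    obtain ⟨E, hE⟩ := exists_klein hwo hz' hne'
      (congrArg Subtype.val (Subgroup.mem_center_iff.1 z.2 ⟨w, hw⟩))
    exact hrank E hE
  rw [key x hx hxo, key y hy hyo]

end Cfsg.Agent.Lib.ZStar.RankOne
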