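import Cfsg.Prelude.Def_Blocks
import Cfsg.Prelude.Def_Solvable
import Cfsg.Prelude.Def_Local
import Cfsg.Agent.Lib.Blocks.Orthogonality
import Cfsg.Agent.Lib.Characters.Kernel
import Cfsg.Agent.Lib.Induced.Integral
import Cfsg.Agent.Lib.Cores.Basic
import Cfsg.Agent.Lib.Involutions.Isolated
import Cfsg.Agent.Lib.Involutions.IndexTwo

/-!
# Glauberman's Z*-theorem, reduction to groups with a unique involution in a Sylow 2-subgroup

The character-theoretic input is that principal-block characters are constant on `z * O(C(z))`.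
-/

set_option autoImplicit false

namespace Cfsg.Agent.Lib.ZStar.Reduction

open Cfsg.Agent.Lib.Involutions
open Cfsg.Agent.Lib.Involutions.Basic
open Cfsg.Agent.Lib.Characters.Basic

universe u

/-- An isolated involution, phrased through commutators. -/
def Iso {G : Type u} [Group G] (t : G) : Prop :=
  orderOf t = 2 ∧ ∀ g : G, Odd (orderOf (t * g * t⁻¹ * g⁻¹))

/-- Central modulo some normal subgroup of odd order. -/
def ZCentral {G : Type u} [Group G] (t : G) : Prop :=
  ∃ N : Subgroup G, N.Normal ∧ Odd (Nat.card N) ∧ ∀ g : G, t * g * t⁻¹ * g⁻¹ ∈ N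

/-- Principal block characters are constant on `z * O(C(z))` for `2`-elements `z`. -/
def PrincipalConst : Prop :=
  ∀ (G : Type u) [Group G] [Finite G] (M : Ideal Cfsg.AlgInt), Cfsg.IsPModular 2 M →
    ∀ (z v : G) (k : ℕ), orderOf z = 2 ^ k → v ∈ Cfsg.centralizerPPrimeCore 2 z →
      ∀ χ : Cfsg.IrrCharacter G, χ ∈ Cfsg.principalBlock M G →
        (χ : G → ℂ) (z * v) = (χ : G → ℂ) z

/-- The case of an involution that is the only one in its centraliser. -/
def UniqueCase : Prop :=
  ∀ (G : Type u) [Group G] [Finite G] (t : G), orderOf t = 2 →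
    (∀ x : G, orderOf x = 2 → Commute t x → x = t) →
    (∀ N : Subgroup G, N.Normal → Odd (Nat.card N) → N = ⊥) → t ∈ Subgroup.center G

variable {G : Type u} [Group G] [Finite G] {t : G}

omit [Finite G] in
theorem comm_eq (ht : orderOf t = 2) (g : G) :
    t * g * t⁻¹ * g⁻¹ = t * (g * t * g⁻¹) := by
  rw [invol_inv ht, mul_assoc t, mul_assoc t]

omit [Finite G] in
/-- An isolated involution equals each conjugate it commutes with. -/
theorem eq_of_commute_conj (h : Iso t) {g : G} (hc : Commute t (g * t * g⁻¹)) :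
    g * t * g⁻¹ = t := by
  have ho : orderOf (g * t * g⁻¹) = 2 := (orderOf_conj_eq g t).trans h.1
  have h2 : (t * (g * t * g⁻¹)) ^ 2 = 1 := by
    rw [hc.mul_pow, pow_two, pow_two, invol_mul_self h.1, invol_mul_self ho, one_mul]
  have hodd := h.2 g
  rw [comm_eq h.1] at hodd
  rcases (Nat.dvd_prime Nat.prime_two).1 (orderOf_dvd_of_pow_eq_one h2) with h1 | h1
  · rw [orderOf_eq_one_iff] at h1
    rw [← inv_eq_of_mul_eq_one_right h1, invol_inv h.1]
  · rw [h1] at hodd
    exact absurd hodd (by decide)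

theorem iso_subgroup (h : Iso t) {H : Subgroup G} (ht : t ∈ H) : Iso (⟨t, ht⟩ : H) :=
  ⟨by rw [Subgroup.orderOf_mk]; exact h.1, fun g => by
    rw [← Subgroup.orderOf_coe]; exact h.2 g⟩

theorem iso_map {K : Type u} [Group K] [Finite K] (f : G →* K) (hf : Function.Surjective f)
    (h : Iso t) (ht : f t ≠ 1) : Iso (f t) :=
  ⟨invol_iff.2 ⟨by rw [← map_mul, invol_mul_self h.1, map_one], ht⟩, fun k => by
    obtain ⟨g, rfl⟩ := hf k
    rw [← map_inv, ← map_inv, ← map_mul, ← map_mul, ← map_mul]
    exact (h.2 g).of_dvd_nat (orderOf_map_dvd f _)⟩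

theorem exists_sylow (h : Iso t) :
    ∃ P : Sylow 2 G, t ∈ P ∧ ∀ g : G, g * t * g⁻¹ ∈ P → g * t * g⁻¹ = t := by
  have hp : IsPGroup 2 (Subgroup.zpowers t) :=
    IsPGroup.of_card (n := 1) (by rw [Nat.card_zpowers, h.1, pow_one])
  obtain ⟨P, hP⟩ := hp.exists_le_sylow
  exact ⟨P, hP (Subgroup.mem_zpowers t),
    (Isolated.isolated_iff_odd_commutators h.1 (hP (Subgroup.mem_zpowers t))).2 h.2⟩

/-- An involution not conjugate to `t` has a conjugate commuting with `t`. -/
theorem exists_conj_commute (h : Iso t) {x : G} (hx : orderOf x = 2) :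
    ∃ g : G, Commute t (g * x * g⁻¹) := by
  obtain ⟨P, htP, hiso⟩ := exists_sylow h
  have hp : IsPGroup 2 (Subgroup.zpowers x) :=
    IsPGroup.of_card (n := 1) (by rw [Nat.card_zpowers, hx, pow_one])
  obtain ⟨Q, hQ⟩ := hp.exists_le_sylow
  obtain ⟨g, hg⟩ := MulAction.exists_smul_eq G Q P
  have hmem : g * x * g⁻¹ ∈ (P : Subgroup G) := by
    rw [← hg, Sylow.coe_subgroup_smul]
    simpa using Subgroup.smul_mem_pointwise_smul (a := MulAut.conj g) x (Q : Subgroup G)
      (hQ (Subgroup.mem_zpowers x))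
  set y := g * x * g⁻¹
  refine ⟨g, ?_⟩
  have := hiso y (mul_mem (mul_mem hmem htP) (inv_mem hmem))
  exact (mul_inv_eq_iff_eq_mul.1 this).symm

theorem odd_preimage {N : Subgroup G} [N.Normal] {N' : Subgroup (G ⧸ N)}
    (h1 : Odd (Nat.card N)) (h2 : Odd (Nat.card N')) :
    Odd (Nat.card (N'.comap (QuotientGroup.mk' N))) := by
  have e : Nat.card (N'.comap (QuotientGroup.mk' N)) = Nat.card N * Nat.card N' :=
    QuotientGroup.card_preimage_mk N (N' : Set (G ⧸ N))
  rw [e]
  exact h1.mul h2

/-- In a proper subgroup, commutators with `t` lie in the odd core. -/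
theorem commutator_mem_core (h : Iso t) {H : Subgroup G} (htH : t ∈ H)
    (IH : ∀ K : Subgroup G, ∀ s : K, K ≠ ⊤ → Iso s → ZCentral s) (hH : H ≠ ⊤) {a : G}
    (ha : a ∈ H) : t * a * t⁻¹ * a⁻¹ ∈ (Cfsg.pPrimeCore 2 H).map H.subtype := by
  obtain ⟨N, hN, hodd, hmem⟩ := IH H ⟨t, htH⟩ hH (iso_subgroup h htH)
  refine ⟨_, Cores.le_pPrimeCore (p := 2) (by simpa [Nat.coprime_two_right] using hodd)
    (hmem ⟨a, ha⟩), rfl⟩

/-- An element of odd order is a power of its square. -/
theorem mem_of_sq_mem {K : Subgroup G} {y : G} (hy : Odd (orderOf y)) (h : y ^ 2 ∈ K) : y ∈ K := by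
  obtain ⟨m, hm⟩ := hy
  have e : (y ^ 2) ^ (m + 1) = y := by
    rw [← pow_mul, show 2 * (m + 1) = orderOf y + 1 by omega, pow_succ, pow_orderOf_eq_one,
      one_mul]
  exact e ▸ pow_mem h _

section Characters

variable {M : Ideal Cfsg.AlgInt}

/-- If `t` has character value of absolute value the degree, commutators with `t` are in the
kernel. -/
theorem commutator_mem_charKer (χ : Cfsg.IrrCharacter G)
    (h : (χ : G → ℂ) t * (χ : G → ℂ) t = (χ : G → ℂ) 1 * (χ : G → ℂ) 1) (g : G) :
    t * g * t⁻¹ * g⁻¹ ∈ Characters.Kernel.charKer (isCharacter_irr χ) := by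
  rw [Characters.Kernel.mem_charKer]
  obtain ⟨n, ρ, hρ⟩ := isCharacter_irr χ
  rw [← hρ] at h ⊢
  have hn : ‖ρ.character t‖ = Module.finrank ℂ (Fin n → ℂ) := by
    have h1 : ρ.character 1 = (Module.finrank ℂ (Fin n → ℂ) : ℂ) := ρ.char_one
    rw [h1] at h
    have h2 := congrArg norm h
    rw [norm_mul, norm_mul, Complex.norm_natCast] at h2
    exact (mul_self_inj (norm_nonneg _) (Nat.cast_nonneg _)).1 h2
  obtain ⟨c, hc⟩ := Induced.Integral.scalar_of_norm_character_eq ρ hn
  refine ((Characters.Kernel.rep_eq_one_iff ρ _).1 ?_)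
  have hcomm : ρ t * ρ g = ρ g * ρ t := by
    rw [hc]
    ext v
    simp [LinearMap.smul_apply, map_smul]
  rw [map_mul, map_mul, map_mul, hcomm, mul_assoc (ρ g), ← map_mul ρ t, mul_inv_cancel, map_one,
    mul_one, ← map_mul, mul_inv_cancel, map_one]

/-- The key identity: `χ (t x) χ 1 = χ t χ x`. -/
theorem char_mul_eq (hPC : PrincipalConst.{u}) (hM : Cfsg.IsPModular 2 M) (h : Iso t)
    (hnz : ∀ z : G, orderOf z = 2 → z ∉ Subgroup.center G)
    (IH : ∀ K : Subgroup G, ∀ s : K, K ≠ ⊤ → Iso s → ZCentral s)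
    {x : G} (hx : orderOf x = 2) (hxt : x ≠ t) (hc : Commute t x) (χ : Cfsg.IrrCharacter G)
    (hχ : χ ∈ Cfsg.principalBlock M G) :
    (χ : G → ℂ) (t * x) * (χ : G → ℂ) 1 = (χ : G → ℂ) t * (χ : G → ℂ) x := by
  classical
  have := Fintype.ofFinite G
  have ht := h.1
  have htt := invol_mul_self ht
  obtain ⟨P, htP, hiso⟩ := exists_sylow h
  have hnc : ¬ IsConj x t := fun hcj => by
    obtain ⟨g, hg⟩ := isConj_iff.1 hcj.symm
    exact hxt (by rw [← hg]; exact eq_of_commute_conj h (hg.symm ▸ hc))
  have key : ∀ g : G, (χ : G → ℂ) (t * (g * x * g⁻¹)) = (χ : G → ℂ) (t * x) := by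
    intro g
    set s := g * x * g⁻¹ with hs_def
    have hs : orderOf s = 2 := (orderOf_conj_eq g x).trans hx
    have hns : ¬ IsConj s t := fun hcj => hnc ((isConj_iff.2 ⟨g, rfl⟩ : IsConj x s).trans hcj)
    have hmod := Isolated.orderOf_mul_mod_four ht htP hiso hs hns
    rw [← orderOf_inv (s * t), mul_inv_rev, invol_inv hs, invol_inv ht] at hmod
    set r := t * s with hr
    have hinv : t * r * t = r⁻¹ := invert_mul htt (invol_mul_self hs)
    obtain ⟨j, hj⟩ : ∃ j, orderOf r = 4 * j + 2 := ⟨orderOf r / 4, by omega⟩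
    have hhalf : orderOf r / 2 = 2 * j + 1 := by omega
    set z := r ^ (orderOf r / 2) with hz_def
    have hz : orderOf z = 2 := orderOf_pow_half ⟨2 * j + 1, by omega⟩
    have hzt : Commute z t := commute_pow_half htt hinv ⟨2 * j + 1, by omega⟩
    set y := r ^ (2 * j + 2) with hy_def
    have hzy : z * y = r := by
      rw [hz_def, hy_def, hhalf, ← pow_add,
        show 2 * j + 1 + (2 * j + 2) = orderOf r + 1 by omega, pow_succ, pow_orderOf_eq_one,
        one_mul]
    have hyodd : Odd (orderOf y) := by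
      have hd : orderOf y ∣ 2 * j + 1 := orderOf_dvd_of_pow_eq_one (by
        rw [hy_def, ← pow_mul,
          show (2 * j + 2) * (2 * j + 1) = orderOf r * (j + 1) by rw [hj]; ring,
          pow_mul, pow_orderOf_eq_one, one_pow])
      exact (odd_two_mul_add_one j).of_dvd_nat hd
    have hyinv : t * y * t = y⁻¹ := by
      have := invert_zpow htt hinv ((2 * j + 2 : ℕ) : ℤ)
      rwa [zpow_neg, zpow_natCast] at this
    have hH : Subgroup.centralizer ({z} : Set G) ≠ ⊤ := fun htop => hnz z hz (by
      rw [Subgroup.mem_center_iff]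
      intro a
      exact Subgroup.mem_centralizer_singleton_iff.1 (htop ▸ Subgroup.mem_top a))
    have htH : t ∈ Subgroup.centralizer ({z} : Set G) :=
      Subgroup.mem_centralizer_singleton_iff.2 hzt.eq.symm
    have hyH : y ∈ Subgroup.centralizer ({z} : Set G) :=
      Subgroup.mem_centralizer_singleton_iff.2 ((Commute.refl r).pow_pow _ _).eq
    have hcore : y ∈ Cfsg.centralizerPPrimeCore 2 z := by
      refine mem_of_sq_mem hyodd ?_
      have hmem := commutator_mem_core h htH IH hH (inv_mem hyH)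
      have e : t * y⁻¹ * t⁻¹ * y⁻¹⁻¹ = y ^ 2 := by
        rw [invol_inv ht, inv_inv, ← hyinv]
        calc t * (t * y * t) * t * y = (t * t) * y * (t * t) * y := by simp only [mul_assoc]
          _ = y ^ 2 := by rw [htt, one_mul, mul_one, pow_two]
      rw [e] at hmem
      exact hmem
    have e1 : (χ : G → ℂ) r = (χ : G → ℂ) z := by
      conv_lhs => rw [← hzy]
      exact hPC G M hM z y 1 (by rw [hz, pow_one]) hcore χ hχ
    -- `z` is conjugate to `t * x`
    have hu'conj : IsConj s (t * z) := by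
      refine isConj_iff.2 ⟨r ^ (-(j : ℤ)), ?_⟩
      have hsr : s = t * r := by rw [hr, ← mul_assoc, htt, one_mul]
      rw [hsr, ← zpow_neg, neg_neg, ← mul_assoc, invert_comm htt hinv, neg_neg, mul_assoc,
        mul_assoc, ← zpow_one r, ← zpow_mul, one_mul, ← zpow_add, ← zpow_add,
        hz_def, hhalf, ← zpow_natCast]
      congr 2
      push_cast
      ring
    obtain ⟨k, hk⟩ := isConj_iff.1 ((isConj_iff.2 ⟨g, rfl⟩ : IsConj x s).trans hu'conj)
    have htz : Commute t (t * z) := (Commute.refl t).mul_right hzt.symm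
    set t' := k⁻¹ * t * k with ht'_def
    have ht'conj : IsConj t t' := isConj_iff.2 ⟨k⁻¹, by rw [ht'_def, inv_inv]⟩
    have ht' : orderOf t' = 2 := by rw [ht'_def]; simpa using (orderOf_conj_eq k⁻¹ t).trans ht
    have ht'x : Commute t' x := by
      show k⁻¹ * t * k * x = x * (k⁻¹ * t * k)
      calc k⁻¹ * t * k * x = k⁻¹ * (t * (k * x * k⁻¹)) * k := by group
        _ = k⁻¹ * ((k * x * k⁻¹) * t) * k := by rw [hk, htz.eq]
        _ = x * (k⁻¹ * t * k) := by group
    have hodd : Odd (orderOf (t * t')) := Isolated.odd_orderOf_mul ht htP hiso ht'conj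
    obtain ⟨d, hd, hdt⟩ := exists_conj_of_odd htt (invol_mul_self ht') hodd
    have hdx : d * x = x * d := by
      have hle : Subgroup.closure ({t, t'} : Set G) ≤ Subgroup.centralizer ({x} : Set G) := by
        rw [Subgroup.closure_le]
        rintro a (rfl | rfl)
        · exact Subgroup.mem_centralizer_singleton_iff.2 hc.eq
        · exact Subgroup.mem_centralizer_singleton_iff.2 ht'x.eq
      exact Subgroup.mem_centralizer_singleton_iff.1 (hle hd)
    have e2 : IsConj (t * x) z := by
      refine isConj_iff.2 ⟨k * d, ?_⟩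
      calc k * d * (t * x) * (k * d)⁻¹ = k * (d * t * d⁻¹) * (d * x * d⁻¹) * k⁻¹ := by group
        _ = k * (k⁻¹ * t * k) * x * k⁻¹ := by rw [hdt, hdx, mul_inv_cancel_right]
        _ = t * (k * x * k⁻¹) := by group
        _ = z := by rw [hk, ← mul_assoc, htt, one_mul]
    rw [e1]
    exact (classFunction_apply_of_isConj (isClassFunction_irr χ) e2).symm
  have hsum := Blocks.sum_char_conj_mul χ t x
  have hterm : ∀ g : G, (χ : G → ℂ) (g * x * g⁻¹ * t) = (χ : G → ℂ) (t * x) := fun g => by
    rw [← key g]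
    refine classFunction_apply_of_isConj (isClassFunction_irr χ) (isConj_iff.2 ⟨t, ?_⟩)
    simp only [mul_assoc, mul_inv_cancel, mul_one]
  simp only [hterm, Finset.sum_const, Finset.card_univ, nsmul_eq_mul] at hsum
  rw [← Nat.card_eq_fintype_card, mul_div_assoc, mul_assoc] at hsum
  have hG0 : (Nat.card G : ℂ) ≠ 0 := Nat.cast_ne_zero.2 Nat.card_pos.ne'
  rw [mul_left_cancel₀ hG0 hsum]
  have h1 := apply_one_ne_zero χ
  field_simp

/-- Principal block characters vanish at the other involutions or have `t` as a scalar. -/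
theorem dichotomy (hPC : PrincipalConst.{u}) (hM : Cfsg.IsPModular 2 M) (h : Iso t)
    (hnz : ∀ z : G, orderOf z = 2 → z ∉ Subgroup.center G)
    (IH : ∀ K : Subgroup G, ∀ s : K, K ≠ ⊤ → Iso s → ZCentral s)
    {x : G} (hx : orderOf x = 2) (hnc : ¬ IsConj x t) (χ : Cfsg.IrrCharacter G)
    (hχ : χ ∈ Cfsg.principalBlock M G) :
    (χ : G → ℂ) x = 0 ∨
      (χ : G → ℂ) t * (χ : G → ℂ) t = (χ : G → ℂ) 1 * (χ : G → ℂ) 1 := by
  obtain ⟨g, hg⟩ := exists_conj_commute h hx
  set y := g * x * g⁻¹ with hy
  have hxy : IsConj x y := isConj_iff.2 ⟨g, rfl⟩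
  rw [classFunction_apply_of_isConj (isClassFunction_irr χ) hxy]
  have hyo : orderOf y = 2 := (orderOf_conj_eq g x).trans hx
  have hyt : y ≠ t := fun e => hnc (e ▸ hxy)
  have hty : orderOf (t * y) = 2 := invol_iff.2 ⟨by
    rw [← pow_two, hg.mul_pow, pow_two, pow_two, invol_mul_self h.1, invol_mul_self hyo, one_mul],
    fun e => hyt (by rw [← inv_eq_of_mul_eq_one_right e, invol_inv h.1])⟩
  have htyt : t * y ≠ t := fun e => invol_ne_one hyo (mul_eq_left.1 e)
  have e1 := char_mul_eq hPC hM h hnz IH hyo hyt hg χ hχ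
  have e2 := char_mul_eq hPC hM h hnz IH hty htyt ((Commute.refl t).mul_right hg) χ hχ
  rw [← mul_assoc, invol_mul_self h.1, one_mul] at e2
  have h1 := apply_one_ne_zero χ
  have e3 : (χ : G → ℂ) y *
      ((χ : G → ℂ) 1 * (χ : G → ℂ) 1 - (χ : G → ℂ) t * (χ : G → ℂ) t) = 0 := by
    linear_combination (χ : G → ℂ) 1 * e2 + (χ : G → ℂ) t * e1
  rcases mul_eq_zero.1 e3 with h0 | h0
  · exact Or.inl h0
  · exact Or.inr (sub_eq_zero.1 h0).symm

end Characters

theorem zcentral_of (hPC : PrincipalConst.{u}) (hU : UniqueCase.{u}) :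
    ∀ (n : ℕ) (G : Type u) [Group G] [Finite G] (t : G), Nat.card G = n → Iso t → ZCentral t := by
  intro n
  induction n using Nat.strong_induction_on with
  | _ n ih =>
    intro G _ _ t hn h
    classical
    have ht := h.1
    -- reduction to trivial odd core
    by_cases hO : ∀ N : Subgroup G, N.Normal → Odd (Nat.card N) → N = ⊥
    swap
    · push Not at hO
      obtain ⟨N, hNn, hNodd, hNne⟩ := hO
      have htN : QuotientGroup.mk' N t ≠ 1 := fun e =>
        (odd_card_iff_no_invol N).1 hNodd t ((QuotientGroup.eq_one_iff t).1 e) ht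
      have hlt : Nat.card (G ⧸ N) < n := by
        rw [← hn, Subgroup.card_eq_card_quotient_mul_card_subgroup N]
        exact lt_mul_of_one_lt_right Nat.card_pos (Subgroup.one_lt_card_iff_ne_bot N |>.2 hNne)
      obtain ⟨N', hN'n, hN'odd, hN'⟩ := ih _ hlt (G ⧸ N) _ rfl
        (iso_map _ (QuotientGroup.mk'_surjective N) h htN)
      refine ⟨N'.comap (QuotientGroup.mk' N), hN'n.comap _, odd_preimage hNodd hN'odd, fun g => ?_⟩
      exact Subgroup.mem_comap.2 (by simpa using hN' (QuotientGroup.mk' N g))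
    suffices hcen : t ∈ Subgroup.center G by
      refine ⟨⊥, inferInstance, by simp, fun g => ?_⟩
      rw [Subgroup.mem_bot, ← Subgroup.mem_center_iff.1 hcen g, mul_inv_cancel_right,
        mul_inv_cancel]
    have IH : ∀ K : Subgroup G, ∀ s : K, K ≠ ⊤ → Iso s → ZCentral s := by
      intro K s hK hs
      refine ih _ ?_ K s rfl hs
      rw [← hn]
      exact lt_of_le_of_ne (Subgroup.card_le_card_group K) fun e =>
        hK (Subgroup.card_eq_iff_eq_top K |>.1 e)
    -- no central involution
    by_cases hz : ∃ z : G, orderOf z = 2 ∧ z ∈ Subgroup.center G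
    · obtain ⟨z, hz, hzc⟩ := hz
      by_contra hcen
      have hn' : (Subgroup.zpowers z).Normal := by
        constructor
        intro a ha b
        rw [Subgroup.mem_center_iff.1 ((Subgroup.zpowers_le.2 hzc) ha) b, mul_inv_cancel_right]
        exact ha
      have htN : QuotientGroup.mk' (Subgroup.zpowers z) t ≠ 1 := fun e =>
        hcen ((Subgroup.zpowers_le.2 hzc) ((QuotientGroup.eq_one_iff t).1 e))
      have hlt : Nat.card (G ⧸ Subgroup.zpowers z) < n := by
        rw [← hn, Subgroup.card_eq_card_quotient_mul_card_subgroup (Subgroup.zpowers z),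
          Nat.card_zpowers, hz]
        have : 0 < Nat.card (G ⧸ Subgroup.zpowers z) := Nat.card_pos
        omega
      obtain ⟨N', hN'n, hN'odd, hN'⟩ := ih _ hlt (G ⧸ Subgroup.zpowers z) _ rfl
        (iso_map _ (QuotientGroup.mk'_surjective _) h htN)
      set L := N'.comap (QuotientGroup.mk' (Subgroup.zpowers z)) with hL
      have hLn : L.Normal := hN'n.comap _
      have hLc : Nat.card L % 4 = 2 := by
        have e : Nat.card L = Nat.card (Subgroup.zpowers z) * Nat.card N' :=
          QuotientGroup.card_preimage_mk _ (N' : Set (G ⧸ Subgroup.zpowers z))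
        rw [Nat.card_zpowers, hz] at e
        obtain ⟨m, hm⟩ := hN'odd
        omega
      obtain ⟨K, hK⟩ := IndexTwo.exists_index_two_of_mod_four hLc
      have hKodd : Odd (Nat.card K) := by
        have := K.card_mul_index
        rw [hK] at this
        exact Nat.odd_iff.2 (by omega)
      have hKmem : ∀ a : L, Odd (orderOf a) → a ∈ K := fun a ha =>
        mem_of_sq_mem ha (Subgroup.sq_mem_of_index_two hK a)
      have hKn : (K.map L.subtype).Normal := by
        constructor
        rintro _ ⟨a, ha, rfl⟩ g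
        refine ⟨⟨g * a * g⁻¹, hLn.conj_mem a a.2 g⟩, hKmem _ ?_, rfl⟩
        rw [Subgroup.orderOf_mk, orderOf_conj_eq, Subgroup.orderOf_coe]
        refine hKodd.of_dvd_nat ?_
        exact Subgroup.orderOf_mk a ha ▸ orderOf_dvd_natCard (⟨a, ha⟩ : K)
      have hKbot := hO _ hKn (by rwa [Subgroup.card_map_of_injective L.subtype_injective])
      apply hcen
      rw [Subgroup.mem_center_iff]
      intro g
      have hcL : t * g * t⁻¹ * g⁻¹ ∈ L :=
        Subgroup.mem_comap.2 (by simpa using hN' (QuotientGroup.mk' _ g))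
      have hmem : t * g * t⁻¹ * g⁻¹ ∈ K.map L.subtype :=
        ⟨⟨_, hcL⟩, hKmem _ (by rw [Subgroup.orderOf_mk]; exact h.2 g), rfl⟩
      rw [hKbot, Subgroup.mem_bot] at hmem
      exact (mul_inv_eq_iff_eq_mul.1 (mul_inv_eq_one.1 hmem)).symm
    push Not at hz
    set L := Subgroup.normalClosure (Set.range fun g : G => t * g * t⁻¹ * g⁻¹) with hL
    have hcomm : ∀ g : G, t * g * t⁻¹ * g⁻¹ ∈ L := fun g =>
      Subgroup.subset_normalClosure ⟨g, rfl⟩
    have hconjmem : ∀ g : G, g * t * g⁻¹ ∈ L ⊔ Subgroup.zpowers t := fun g => by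
      have e : g * t * g⁻¹ = t * (t * g * t⁻¹ * g⁻¹) := by
        rw [comm_eq ht, ← mul_assoc, invol_mul_self ht, one_mul]
      rw [e]
      exact mul_mem (Subgroup.mem_sup_right (Subgroup.mem_zpowers t))
        (Subgroup.mem_sup_left (hcomm g))
    by_contra hcen
    set W := L ⊔ Subgroup.zpowers t with hW
    have htW : t ∈ W := Subgroup.mem_sup_right (Subgroup.mem_zpowers t)
    -- `W` is normal and hence everything
    have hWtop : W = ⊤ := by
      by_contra hWne
      have hWn : W.Normal := by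
        refine ⟨fun a ha g => ?_⟩
        have hle : W ≤ W.comap (MulAut.conj g).toMonoidHom := by
          refine sup_le (fun b hb => Subgroup.mem_sup_left ?_) (Subgroup.zpowers_le.2 ?_)
          · exact (Subgroup.normalClosure_normal).conj_mem b hb g
          · exact hconjmem g
        exact hle ha
      have : W.Normal := hWn
      have hbot : (Cfsg.pPrimeCore 2 W).map W.subtype = ⊥ := by
        refine hO _ (Cores.normal_map_subtype W _) ?_
        rw [Subgroup.card_map_of_injective W.subtype_injective, ← Nat.coprime_two_right]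
        exact Cores.pPrimeCore_coprime 2
      apply hcen
      rw [Subgroup.mem_center_iff]
      intro g
      have hm := commutator_mem_core h htW IH hWne (hconjmem g)
      rw [hbot, Subgroup.mem_bot, mul_inv_eq_one] at hm
      exact mul_inv_eq_iff_eq_mul.1
        (eq_of_commute_conj h (mul_inv_eq_iff_eq_mul.1 hm))
    obtain ⟨M, hM⟩ := Blocks.exists_isPModular 2 Nat.prime_two
    have := hM.2.1
    -- no involution of `L` is outside the class of `t`
    have contra : ∀ x ∈ L, orderOf x = 2 → ¬ IsConj x t → False := by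
      intro x hxL hx hnc
      have hval : ∀ χ ∈ Cfsg.principalBlock M G,
          (χ : G → ℂ) x = 0 ∨ (χ : G → ℂ) x = (χ : G → ℂ) 1 := by
        intro χ hχ
        refine (dichotomy hPC hM h hz IH hx hnc χ hχ).imp id fun hsq => ?_
        have hle : L ≤ Characters.Kernel.charKer (isCharacter_irr χ) := by
          have := Characters.Kernel.charKer_normal (isCharacter_irr χ)
          refine Subgroup.normalClosure_le_normal ?_
          rintro _ ⟨g, rfl⟩
          exact commutator_mem_charKer χ hsq g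
        exact hle hxL
      have horth := Blocks.weak_orthogonality hM (Blocks.isPBlock_principalBlock (G := G))
        (x := (1 : G)) (y := x) (by simp) (by rw [hx])
      have := Fintype.ofFinite (Cfsg.IrrCharacter G)
      rw [finsum_mem_eq_sum_of_inter_support_eq (t := Finset.univ.filter
        (fun χ => χ ∈ Cfsg.principalBlock M G)) _ (by simp)] at horth
      have hre := congrArg Complex.re horth
      rw [Complex.re_sum, Complex.zero_re] at hre
      have hnn : ∀ χ ∈ Finset.univ.filter (fun χ => χ ∈ Cfsg.principalBlock M G),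
          0 ≤ ((χ : G → ℂ) 1 * starRingEnd ℂ ((χ : G → ℂ) x)).re := by
        intro χ hχ
        rcases hval χ (Finset.mem_filter.1 hχ).2 with e | e
        · simp [e]
        · rw [e, Complex.mul_conj]
          exact_mod_cast Complex.normSq_nonneg _
      have h1 := (Finset.sum_eq_zero_iff_of_nonneg hnn).1 hre (oneChar G)
        (Finset.mem_filter.2 ⟨Finset.mem_univ _, Blocks.oneChar_mem_principalBlock⟩)
      simp [oneChar_apply] at h1
    by_cases htL : t ∈ L
    · have hLtop : L = ⊤ := by
        rw [← hWtop, hW, sup_eq_left.2 (Subgroup.zpowers_le.2 htL)]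
      refine hcen (hU G t ht (fun x hx hc => ?_) hO)
      by_contra hxt
      refine contra x (hLtop ▸ Subgroup.mem_top x) hx fun hcj => hxt ?_
      obtain ⟨g, hg⟩ := isConj_iff.1 hcj.symm
      rw [← hg]
      exact eq_of_commute_conj h (hg.symm ▸ hc)
    · have hLn : L.Normal := Subgroup.normalClosure_normal
      rcases Nat.even_or_odd (Nat.card L) with hev | hodd
      · obtain ⟨x, hx⟩ := exists_invol (G := L) hev
        refine contra x x.2 (by rw [Subgroup.orderOf_coe]; exact hx) fun hcj => htL ?_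
        obtain ⟨g, hg⟩ := isConj_iff.1 hcj
        exact hg ▸ hLn.conj_mem _ x.2 g
      · apply hcen
        rw [Subgroup.mem_center_iff]
        intro g
        have hm := hcomm g
        rw [hO L hLn hodd, Subgroup.mem_bot] at hm
        exact (mul_inv_eq_iff_eq_mul.1 (mul_inv_eq_one.1 hm)).symm

/-- Glauberman's theorem from the two inputs. -/
theorem zstar_of (hPC : PrincipalConst.{u}) (hU : UniqueCase.{u}) {G : Type u} [Group G]
    [Finite G] (P : Sylow 2 G) (t : G) (ht : orderOf t = 2) (htP : t ∈ P)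
    (hiso : ∀ g : G, g * t * g⁻¹ ∈ P → g * t * g⁻¹ = t) : ZCentral t :=
  zcentral_of hPC hU _ G t rfl
    ⟨ht, (Isolated.isolated_iff_odd_commutators ht htP).1 hiso⟩

end Cfsg.Agent.Lib.ZStar.Reduction
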