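import Cfsg.Prelude.Def_Characters
import Cfsg.Prelude.Def_Transfer
import Cfsg.Agent.Lib.Brauer.Characterization
import Cfsg.Agent.Lib.Induced.Generalized
import Cfsg.Agent.Lib.Induced.Burnside
import Cfsg.Agent.Lib.Clifford.Rep
import Cfsg.Agent.Lib.Transfer.Frobenius
import Cfsg.Agent.Lib.Involutions.Basic

/-!
# Tools for building generalized characters from values on `2`-parts

Eigen-components for central elements, a criterion on nilpotent subgroups, and uniform exponents
giving the `2`-part and the odd part of every element.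
-/

set_option autoImplicit false

namespace Cfsg.Agent.Lib.ZStar.GenChar

open Cfsg.Agent.Lib.Characters.Basic
open Cfsg.Agent.Lib.Induced
open scoped ComplexConjugate

universe u

section Eigen

variable {E : Type u} [Group E] [Finite E]

/-- A central element acts on an irreducible character by a root of unity. -/
theorem exists_central_scalar (χ : Cfsg.IrrCharacter E) {z : E} (hz : z ∈ Subgroup.center E)
    {n : ℕ} (hzn : z ^ n = 1) :
    ∃ ω : ℂ, ω ^ n = 1 ∧ ∀ (k : ℕ) (e : E), (χ : E → ℂ) (z ^ k * e) = ω ^ k * (χ : E → ℂ) e := by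
  obtain ⟨d, ρ, hirr, hρ⟩ := χ.2
  have := hirr
  obtain ⟨ω, hω⟩ := Clifford.Rep.schur ρ (ρ z) fun g => by
    rw [← map_mul, ← map_mul, (Subgroup.mem_center_iff.1 hz g)]
  have hpow : ∀ k : ℕ, ρ (z ^ k) = ω ^ k • (1 : Module.End ℂ (Fin d → ℂ)) := fun k => by
    rw [map_pow, hω, smul_pow, one_pow]
  refine ⟨ω, ?_, fun k e => ?_⟩
  · have h1 := hpow n
    rw [hzn, map_one] at h1
    have := Clifford.Rep.nontrivial_of_irreducible ρ
    obtain ⟨v, hv⟩ := exists_ne (0 : Fin d → ℂ)
    have h2 := LinearMap.congr_fun h1 v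
    simp only [Module.End.one_apply, LinearMap.smul_apply] at h2
    by_contra hne
    have h3 : (ω ^ n - 1) • v = 0 := by rw [sub_smul, one_smul, ← h2, sub_self]
    rcases smul_eq_zero.1 h3 with h | h
    · exact hne (sub_eq_zero.1 h)
    · exact hv h
  · rw [← hρ]
    show LinearMap.trace ℂ _ (ρ (z ^ k * e)) = _
    rw [map_mul, hpow, smul_mul_assoc, one_mul, map_smul, smul_eq_mul]
    rfl

/-- The component of a generalized character on which a central element acts as `c`. -/
theorem isGen_eigen {z : E} (hz : z ∈ Subgroup.center E) {n : ℕ} (hn : n ≠ 0) (hzn : z ^ n = 1)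
    {c : ℂ} (hc : c ^ n = 1) {ψ : E → ℂ} (hψ : Cfsg.IsGeneralizedCharacter E ψ) :
    Cfsg.IsGeneralizedCharacter E
      (fun e => (n : ℂ)⁻¹ * ∑ k ∈ Finset.range n, (c ^ k)⁻¹ * ψ (z ^ k * e)) := by
  classical
  have := Fintype.ofFinite E
  have := Fintype.ofFinite (Cfsg.IrrCharacter E)
  choose ω hω1 hω2 using fun χ : Cfsg.IrrCharacter E => exists_central_scalar χ hz hzn
  obtain ⟨a, -, ha, -⟩ := Generalized.exists_coeff hψ
  have key : (fun e => (n : ℂ)⁻¹ * ∑ k ∈ Finset.range n, (c ^ k)⁻¹ * ψ (z ^ k * e)) =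
      ∑ χ : Cfsg.IrrCharacter E,
        (((if ω χ = c then a χ else 0 : ℤ) : ℂ)) • (χ : E → ℂ) := by
    funext e
    have hc0 : c ≠ 0 := fun h => by simp [h, hn] at hc
    have hn0 : (n : ℂ) ≠ 0 := Nat.cast_ne_zero.2 hn
    simp only [ha, Finset.sum_apply, Pi.smul_apply, smul_eq_mul, hω2, Finset.mul_sum]
    rw [Finset.sum_comm]
    refine Finset.sum_congr rfl fun χ _ => ?_
    have hgeom : (n : ℂ)⁻¹ * ∑ k ∈ Finset.range n, (ω χ * c⁻¹) ^ k =
        if ω χ = c then 1 else 0 := by
      split_ifs with h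
      · rw [h, mul_inv_cancel₀ hc0]
        simp [hn0]
      · have hne : ω χ * c⁻¹ ≠ 1 := fun h1 => h (by
          have := (mul_inv_eq_one₀ hc0).1 h1
          exact this)
        rw [geom_sum_eq hne, mul_pow, inv_pow, hω1, hc]
        simp
    calc ∑ k ∈ Finset.range n,
          (n : ℂ)⁻¹ * ((c ^ k)⁻¹ * ((a χ : ℂ) * (ω χ ^ k * (χ : E → ℂ) e)))
        = ((n : ℂ)⁻¹ * ∑ k ∈ Finset.range n, (ω χ * c⁻¹) ^ k) * ((a χ : ℂ) * (χ : E → ℂ) e) := by
          rw [Finset.mul_sum, Finset.sum_mul]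
          refine Finset.sum_congr rfl fun k _ => ?_
          rw [mul_pow, inv_pow]
          ring
      _ = _ := by rw [hgeom]; split_ifs <;> simp
  rw [key]
  exact Generalized.isGen_sum _ fun χ _ => Generalized.isGen_zsmul (Generalized.of_irr χ) _

open scoped Classical in
/-- The regular character. -/
theorem isGen_regular :
    Cfsg.IsGeneralizedCharacter E (fun e => if e = 1 then (Nat.card E : ℂ) else 0) := by
  have := Fintype.ofFinite E
  convert Generalized.of_isCharacter (Burnside.isCharacter_regChar E) using 1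
  funext e
  rw [Burnside.regChar_apply]

open scoped Classical in
/-- A translate of the regular character by a central element. -/
theorem isGen_translate_regular {z : E} (hz : z ∈ Subgroup.center E) (hz2 : z ^ 2 = 1) :
    Cfsg.IsGeneralizedCharacter E (fun e => if e = z then (Nat.card E : ℂ) else 0) := by
  -- twice the component of the regular character at `-1`, subtracted from the regular character
  have h := isGen_eigen hz (n := 2) (by norm_num) hz2 (c := -1) (by norm_num) (isGen_regular (E := E))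
  have h' := Generalized.isGen_sub (isGen_regular (E := E)) (Generalized.isGen_zsmul h 2)
  convert h' using 1
  funext e
  simp only [Pi.sub_apply, Pi.smul_apply, smul_eq_mul, Finset.sum_range_succ,
    Finset.sum_range_zero, pow_zero, pow_one, one_mul, inv_one, zero_add]
  have e2 : z * e = 1 ↔ e = z := by
    constructor
    · intro h1
      have hzi : z⁻¹ = z := inv_eq_of_mul_eq_one_right (by rw [← pow_two, hz2])
      rw [← inv_eq_of_mul_eq_one_right h1, hzi]
    · rintro rfl; rw [← pow_two, hz2]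
  simp only [e2]
  norm_num
  split_ifs <;> simp

end Eigen

section Criterion

variable {G : Type u} [Group G] [Finite G]

/-- Brauer's criterion, in the form used here. -/
theorem isGen_of_nilpotent {θ : G → ℂ} (hcl : Cfsg.IsClassFunction G θ)
    (h : ∀ E : Subgroup G, Group.IsNilpotent E →
      Cfsg.IsGeneralizedCharacter E (fun e : E => θ (e : G))) :
    Cfsg.IsGeneralizedCharacter G θ := by
  classical
  have := Fintype.ofFinite G
  refine Brauer.Characterization.isGeneralized_of_mem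
    (Brauer.Characterization.mem_of_elementary ℤ hcl fun E _ p hp hE => ?_)
  have hmem := Brauer.Monomial.genChar_mem (h E (Brauer.Monomial.isNilpotent_of_elementary hp hE))
  exact Submodule.span_mono (by rintro f ⟨H, -, l, rfl⟩; exact ⟨H, trivial, l, rfl⟩) hmem

end Criterion

section Split

/-- Exponents giving, for all elements, the `2`-part and the odd part. -/
structure SplitExp (N : ℕ) where
  /-- exponent of the `2`-part -/
  a : ℕ
  /-- exponent of the odd part -/
  b : ℕ
  modA : ∀ k : ℕ, 2 ^ k ∣ N → a ≡ 1 [MOD 2 ^ k]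
  modA' : ∀ d : ℕ, Odd d → d ∣ N → a ≡ 0 [MOD d]
  modB : ∀ k : ℕ, 2 ^ k ∣ N → b ≡ 0 [MOD 2 ^ k]
  modB' : ∀ d : ℕ, Odd d → d ∣ N → b ≡ 1 [MOD d]

theorem exists_splitExp {N : ℕ} (hN : N ≠ 0) : Nonempty (SplitExp N) := by
  obtain ⟨k, m, hm, rfl⟩ := Nat.exists_eq_pow_mul_and_not_dvd hN 2 (by norm_num)
  have hmodd : Odd m := Nat.odd_iff.2 (by omega)
  have hco : (2 ^ k).Coprime m := (hmodd.coprime_two_left).pow_left k
  have hdvd : ∀ j : ℕ, 2 ^ j ∣ 2 ^ k * m → 2 ^ j ∣ 2 ^ k := fun j hj =>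
    Nat.Coprime.dvd_of_dvd_mul_right (hmodd.coprime_two_left.pow_left j) hj
  have hdvd' : ∀ d : ℕ, Odd d → d ∣ 2 ^ k * m → d ∣ m := fun d hd hj =>
    Nat.Coprime.dvd_of_dvd_mul_left (hd.coprime_two_right.pow_right k) hj
  obtain ⟨a, ha1, ha2⟩ := Nat.chineseRemainder hco 1 0
  obtain ⟨b, hb1, hb2⟩ := Nat.chineseRemainder hco 0 1
  exact ⟨⟨a, b, fun j hj => ha1.of_dvd (hdvd j hj), fun d hd hj => ha2.of_dvd (hdvd' d hd hj),
    fun j hj => hb1.of_dvd (hdvd j hj), fun d hd hj => hb2.of_dvd (hdvd' d hd hj)⟩⟩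

variable {G : Type u} [Group G] [Finite G] {N : ℕ} (S : SplitExp N)

omit [Finite G] in
theorem pow_eq_of_modEq {g : G} {i j : ℕ} (h : i ≡ j [MOD orderOf g]) : g ^ i = g ^ j :=
  pow_eq_pow_iff_modEq.2 h

omit [Finite G] in
theorem pow_a_of_two {g : G} {k : ℕ} (hg : orderOf g = 2 ^ k) (hd : orderOf g ∣ N) :
    g ^ S.a = g := by
  rw [pow_eq_of_modEq (hg ▸ S.modA k (hg ▸ hd)), pow_one]

omit [Finite G] in
theorem pow_a_of_odd {g : G} (hg : Odd (orderOf g)) (hd : orderOf g ∣ N) : g ^ S.a = 1 := by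
  rw [pow_eq_of_modEq (S.modA' _ hg hd), pow_zero]

omit [Finite G] in
theorem pow_b_of_two {g : G} {k : ℕ} (hg : orderOf g = 2 ^ k) (hd : orderOf g ∣ N) :
    g ^ S.b = 1 := by
  rw [pow_eq_of_modEq (hg ▸ S.modB k (hg ▸ hd)), pow_zero]

omit [Finite G] in
theorem pow_b_of_odd {g : G} (hg : Odd (orderOf g)) (hd : orderOf g ∣ N) : g ^ S.b = g := by
  rw [pow_eq_of_modEq (S.modB' _ hg hd), pow_one]

/-- Every element splits as commuting `2`-part and odd part. -/
theorem split_spec {g : G} (hd : orderOf g ∣ N) :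
    g ^ S.a * g ^ S.b = g ∧ (∃ k, orderOf (g ^ S.a) = 2 ^ k) ∧ Odd (orderOf (g ^ S.b)) := by
  obtain ⟨k, m, hm, hgm⟩ := Nat.exists_eq_pow_mul_and_not_dvd (orderOf_pos g).ne' 2 (by norm_num)
  have hmodd : Odd m := Nat.odd_iff.2 (by omega)
  have hk : 2 ^ k ∣ N := (hgm ▸ dvd_mul_right _ _ : 2 ^ k ∣ orderOf g).trans hd
  have hmN : m ∣ N := (hgm ▸ dvd_mul_left _ _ : m ∣ orderOf g).trans hd
  refine ⟨?_, ?_, ?_⟩
  · rw [← pow_add]
    nth_rw 2 [← pow_one g]
    refine pow_eq_of_modEq ?_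
    rw [hgm]
    refine (Nat.modEq_and_modEq_iff_modEq_mul (hmodd.coprime_two_left.pow_left k)).1 ⟨?_, ?_⟩
    · simpa using (S.modA k hk).add (S.modB k hk)
    · simpa using (S.modA' m hmodd hmN).add (S.modB' m hmodd hmN)
  · have : orderOf (g ^ S.a) ∣ 2 ^ k := orderOf_dvd_of_pow_eq_one (by
      rw [← pow_mul, ← pow_zero g]
      refine pow_eq_of_modEq ?_
      rw [hgm, mul_comm S.a]
      exact Nat.modEq_zero_iff_dvd.2
        (mul_dvd_mul_left _ (Nat.modEq_zero_iff_dvd.1 (S.modA' m hmodd hmN))))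
    obtain ⟨j, -, hj⟩ := (Nat.dvd_prime_pow Nat.prime_two).1 this
    exact ⟨j, hj⟩
  · have : orderOf (g ^ S.b) ∣ m := orderOf_dvd_of_pow_eq_one (by
      rw [← pow_mul, ← pow_zero g]
      refine pow_eq_of_modEq ?_
      rw [hgm]
      exact Nat.modEq_zero_iff_dvd.2
        (mul_dvd_mul_right (Nat.modEq_zero_iff_dvd.1 (S.modB k hk)) m))
    exact hmodd.of_dvd_nat this

/-- In a nilpotent group taking the `2`-part is a homomorphism, and so is taking the odd part. -/
theorem pow_split_mul [Group.IsNilpotent G] (hN : Nat.card G ∣ N) (e f : G) :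
    (e * f) ^ S.a = e ^ S.a * f ^ S.a ∧ (e * f) ^ S.b = e ^ S.b * f ^ S.b := by
  have hd : ∀ g : G, orderOf g ∣ N := fun g => (orderOf_dvd_natCard g).trans hN
  have hcop : ∀ g h : G, Commute (g ^ S.a) (h ^ S.b) := fun g h => by
    refine Transfer.Frobenius.commute_of_coprime_of_isNilpotent ?_
    obtain ⟨-, ⟨i, hi⟩, -⟩ := split_spec S (hd g)
    obtain ⟨-, -, ho⟩ := split_spec S (hd h)
    rw [hi]
    exact (ho.coprime_two_left).pow_left i
  obtain ⟨P⟩ := (inferInstance : Nonempty (Sylow 2 G))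
  obtain ⟨Q, K, hKn, hK⟩ := Transfer.Frobenius.hasNormalPComplement_of_isNilpotent (G := G) (p := 2)
  have htwo : ∀ g : G, (∃ i, orderOf g = 2 ^ i) → g ∈ (Q : Subgroup G) := by
    rintro g ⟨i, hi⟩
    have hp : IsPGroup 2 (Subgroup.zpowers g) :=
      IsPGroup.of_card (n := i) (by rw [Nat.card_zpowers, hi])
    rw [← Q.3 (IsPGroup.to_sup_of_normal_left' Q.2 hp
      (fun x _ => (Subgroup.normalizer_eq_top (H := (Q : Subgroup G))) ▸ Subgroup.mem_top x))
      le_sup_left]
    exact Subgroup.mem_sup_right (Subgroup.mem_zpowers g)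
  have hKodd : ∀ g : G, Odd (orderOf g) ↔ g ∈ K := by
    intro g
    constructor
    · intro hg
      obtain ⟨⟨k, q⟩, hkq⟩ := (hK : Function.Bijective _).2 g
      change (k : G) * (q : G) = g at hkq
      have hqK : ((q : G) : G ⧸ K) = (g : G ⧸ K) := by
        rw [← hkq, QuotientGroup.mk_mul, (QuotientGroup.eq_one_iff (k : G)).2 k.2, one_mul]
      obtain ⟨i, hi⟩ := IsPGroup.iff_orderOf.1 Q.2 q
      rw [← Subgroup.orderOf_coe] at hi
      have hd1 : orderOf ((g : G ⧸ K)) ∣ 2 ^ i := by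
        rw [← hqK, ← hi]
        exact orderOf_map_dvd (QuotientGroup.mk' K) _
      have hd2 : orderOf ((g : G ⧸ K)) ∣ orderOf g := orderOf_map_dvd (QuotientGroup.mk' K) g
      exact (QuotientGroup.eq_one_iff g).1 (orderOf_eq_one_iff.1
        (Nat.eq_one_of_dvd_coprimes ((hg.coprime_two_left).pow_left i) hd1 hd2))
    · intro hg
      have h2 : ¬ 2 ∣ Nat.card K := by
        rw [← hK.index_eq_card]
        exact Q.not_dvd_index
      have hodd : Odd (Nat.card K) := Nat.odd_iff.2 (by omega)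
      refine hodd.of_dvd_nat ?_
      exact Subgroup.orderOf_mk g hg ▸ orderOf_dvd_natCard (⟨g, hg⟩ : K)
  set w := e ^ S.a * f ^ S.a with hw
  set v := e ^ S.b * f ^ S.b with hv
  have hwv : Commute w v := ((hcop e e).mul_right (hcop e f)).mul_left
    ((hcop f e).mul_right (hcop f f))
  have hef : e * f = w * v := by
    conv_lhs => rw [← (split_spec S (hd e)).1, ← (split_spec S (hd f)).1]
    rw [hw, hv, mul_assoc, mul_assoc, ← mul_assoc (e ^ S.b) (f ^ S.a), ← (hcop f e).eq]
    simp only [mul_assoc]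
  have hwmem : w ∈ (Q : Subgroup G) :=
    mul_mem (htwo _ (split_spec S (hd e)).2.1) (htwo _ (split_spec S (hd f)).2.1)
  obtain ⟨i, hi⟩ := IsPGroup.iff_orderOf.1 Q.2 ⟨w, hwmem⟩
  rw [Subgroup.orderOf_mk] at hi
  have hvodd : Odd (orderOf v) := (hKodd v).2
    (mul_mem ((hKodd _).1 (split_spec S (hd e)).2.2) ((hKodd _).1 (split_spec S (hd f)).2.2))
  constructor
  · rw [hef, hwv.mul_pow, pow_a_of_two S hi (hd w), pow_a_of_odd S hvodd (hd v), mul_one]
  · rw [hef, hwv.mul_pow, pow_b_of_two S hi (hd w), pow_b_of_odd S hvodd (hd v), one_mul]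

/-- The `2`-part homomorphism of a nilpotent group. -/
def twoHom [Group.IsNilpotent G] (hN : Nat.card G ∣ N) : G →* G :=
  MonoidHom.mk' (fun g => g ^ S.a) fun e f => (pow_split_mul S hN e f).1

/-- The odd part homomorphism of a nilpotent group. -/
def oddHom [Group.IsNilpotent G] (hN : Nat.card G ∣ N) : G →* G :=
  MonoidHom.mk' (fun g => g ^ S.b) fun e f => (pow_split_mul S hN e f).2

theorem twoHom_apply [Group.IsNilpotent G] (hN : Nat.card G ∣ N) (g : G) :
    twoHom S hN g = g ^ S.a := rfl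

theorem oddHom_apply [Group.IsNilpotent G] (hN : Nat.card G ∣ N) (g : G) :
    oddHom S hN g = g ^ S.b := rfl

end Split

end Cfsg.Agent.Lib.ZStar.GenChar
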