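import Cfsg.Agent.Lib.ZStar.GenChar
import Cfsg.Agent.Lib.Characters.Linear
import Cfsg.Agent.Lib.Characters.Complete
import Cfsg.Agent.Lib.Characters.Generalized

/-!
# Further generalized characters: averages over normal subgroups, and small regular components
-/

set_option autoImplicit false

namespace Cfsg.Agent.Lib.ZStar.GenTools

open Cfsg.Agent.Lib.Characters.Basic
open Cfsg.Agent.Lib.Induced
open scoped ComplexConjugate

universe u

variable {E : Type u} [Group E] [Finite E]

/-- Averaging an irreducible character over a normal subgroup gives itself or zero. -/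
theorem exists_average_scalar (χ : Cfsg.IrrCharacter E) (N : Subgroup E) [hN : N.Normal]
    [Fintype N] : ∃ c : ℤ, ∀ e : E,
      (Nat.card N : ℂ)⁻¹ * ∑ r : N, (χ : E → ℂ) ((r : E) * e) = c * (χ : E → ℂ) e := by
  obtain ⟨d, ρ, hirr, hρ⟩ := χ.2
  have := hirr
  have hcard : (Nat.card N : ℂ) ≠ 0 := Nat.cast_ne_zero.2 Nat.card_pos.ne'
  set S : Module.End ℂ (Fin d → ℂ) := ∑ r : N, ρ (r : E) with hS
  have hcomm : ∀ g : E, S * ρ g = ρ g * S := fun g => by
    rw [hS, Finset.sum_mul, Finset.mul_sum]
    refine Fintype.sum_equiv (MulAut.conjNormal g⁻¹).toEquiv _ _ fun r => ?_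
    rw [← map_mul, ← map_mul, MulEquiv.toEquiv_eq_coe, MulEquiv.coe_toEquiv,
      MulAut.conjNormal_apply]
    congr 1
    group
  obtain ⟨c, hc⟩ := Clifford.Rep.schur ρ S hcomm
  have hfix : ∀ s : N, ρ (s : E) * S = S := fun s => by
    rw [hS, Finset.mul_sum]
    refine Fintype.sum_equiv (Equiv.mulLeft s) _ _ fun r => ?_
    rw [← map_mul]
    rfl
  obtain ⟨k, hk⟩ : ∃ k : ℤ, S = ((Nat.card N : ℂ) * k) • (1 : Module.End ℂ (Fin d → ℂ)) := by
    rcases eq_or_ne c 0 with h0 | h0
    · exact ⟨0, by rw [hc, h0, Int.cast_zero, mul_zero]⟩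
    · refine ⟨1, ?_⟩
      have h1 : ∀ s : N, ρ (s : E) = 1 := fun s => by
        have h := hfix s
        rw [hc, mul_smul_comm, mul_one] at h
        exact smul_right_injective _ h0 h
      rw [hS, Finset.sum_congr rfl fun s _ => h1 s, Finset.sum_const, Finset.card_univ,
        Int.cast_one, mul_one, ← Nat.card_eq_fintype_card, Nat.cast_smul_eq_nsmul]
  refine ⟨k, fun e => ?_⟩
  rw [← hρ]
  have e1 : ∑ r : N, ρ.character ((r : E) * e) = LinearMap.trace ℂ _ (S * ρ e) := by
    rw [hS, Finset.sum_mul, map_sum]
    exact Finset.sum_congr rfl fun r _ => by rw [← map_mul]; rfl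
  rw [e1, hk, smul_mul_assoc, one_mul, map_smul, smul_eq_mul]
  show _ = (k : ℂ) * LinearMap.trace ℂ _ (ρ e)
  field_simp

/-- The average of a generalized character over a normal subgroup. -/
theorem isGen_average (N : Subgroup E) [N.Normal] [Fintype N] {ψ : E → ℂ}
    (hψ : Cfsg.IsGeneralizedCharacter E ψ) :
    Cfsg.IsGeneralizedCharacter E
      (fun e => (Nat.card N : ℂ)⁻¹ * ∑ r : N, ψ ((r : E) * e)) := by
  classical
  have := Fintype.ofFinite E
  have := Fintype.ofFinite (Cfsg.IrrCharacter E)
  choose c hc using fun χ : Cfsg.IrrCharacter E => exists_average_scalar χ N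
  obtain ⟨a, -, ha, -⟩ := Generalized.exists_coeff hψ
  have key : (fun e => (Nat.card N : ℂ)⁻¹ * ∑ r : N, ψ ((r : E) * e)) =
      ∑ χ : Cfsg.IrrCharacter E, ((a χ * c χ : ℤ) : ℂ) • (χ : E → ℂ) := by
    funext e
    simp only [ha, Finset.sum_apply, Pi.smul_apply, smul_eq_mul, Int.cast_mul, mul_assoc, ← hc,
      Finset.mul_sum]
    rw [Finset.sum_comm]
    refine Finset.sum_congr rfl fun χ _ => Finset.sum_congr rfl fun r _ => ?_
    ring
  rw [key]
  exact Generalized.isGen_sum _ fun χ _ => Generalized.isGen_zsmul (Generalized.of_irr χ) _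

/-- A generalized character translated by a central involution. -/
theorem isGen_translate {z : E} (hz : z ∈ Subgroup.center E) (hz2 : z ^ 2 = 1) {ψ : E → ℂ}
    (hψ : Cfsg.IsGeneralizedCharacter E ψ) :
    Cfsg.IsGeneralizedCharacter E (fun e => ψ (z * e)) := by
  have h := GenChar.isGen_eigen hz (n := 2) (by norm_num) hz2 (c := 1) (by norm_num) hψ
  convert Generalized.isGen_sub (Generalized.isGen_zsmul h 2) hψ using 1
  funext e
  simp only [Pi.sub_apply, Pi.smul_apply, smul_eq_mul, Finset.sum_range_succ,
    Finset.sum_range_zero, pow_zero, pow_one, one_mul, inv_one, zero_add]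
  norm_num
  ring

open scoped Classical in
/-- The component of the regular character fixed by a central involution. -/
theorem isGen_half_sum {z : E} (hz : z ∈ Subgroup.center E) (hz2 : z ^ 2 = 1) :
    Cfsg.IsGeneralizedCharacter E
      (fun e => (Nat.card E : ℂ) / 2 * ((if e = 1 then 1 else 0) + (if e = z then 1 else 0))) := by
  have h := GenChar.isGen_eigen hz (n := 2) (by norm_num) hz2 (c := 1) (by norm_num)
    (GenChar.isGen_regular (E := E))
  convert h using 1
  funext e
  have hzi : z⁻¹ = z := inv_eq_of_mul_eq_one_right (by rw [← pow_two, hz2])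
  have e2 : z * e = 1 ↔ e = z := by
    rw [mul_eq_one_iff_inv_eq, hzi, eq_comm]
  simp only [Finset.sum_range_succ, Finset.sum_range_zero, pow_zero, pow_one, one_mul, inv_one,
    zero_add, e2]
  split_ifs <;> push_cast <;> ring

open scoped Classical in
/-- The component of the regular character negated by a central involution. -/
theorem isGen_half_diff {z : E} (hz : z ∈ Subgroup.center E) (hz2 : z ^ 2 = 1) :
    Cfsg.IsGeneralizedCharacter E
      (fun e => (Nat.card E : ℂ) / 2 * ((if e = 1 then 1 else 0) - (if e = z then 1 else 0))) := by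
  convert Generalized.isGen_sub (GenChar.isGen_regular (E := E)) (isGen_half_sum hz hz2) using 1
  funext e
  simp only [Pi.sub_apply]
  split_ifs <;> ring

open scoped Classical in
/-- In a group of order eight in which the central involution is a commutator, the faithful
part of the regular character is twice a character. -/
theorem isGen_quarter_diff (h8 : Nat.card E = 8) {z a b : E} (hz : z ∈ Subgroup.center E)
    (hz2 : z ^ 2 = 1) (hab : a * b = z * (b * a)) :
    Cfsg.IsGeneralizedCharacter E
      (fun e => 2 * ((if e = 1 then (1 : ℂ) else 0) - (if e = z then 1 else 0))) := by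
  have := Fintype.ofFinite E
  have := Fintype.ofFinite (Cfsg.IrrCharacter E)
  rw [Characters.Generalized.iff_classInner_int]
  refine ⟨fun g h => ?_, fun χ => ?_⟩
  · have e1 : h * g * h⁻¹ = 1 ↔ g = 1 := conj_eq_one_iff
    have e2 : h * g * h⁻¹ = z ↔ g = z := by
      rw [mul_inv_eq_iff_eq_mul, ← Subgroup.mem_center_iff.1 hz h, mul_right_inj]
    simp only [e1, e2]
  · obtain ⟨ω, hω, hωχ⟩ := GenChar.exists_central_scalar χ hz hz2
    obtain ⟨n, hn0, hn⟩ := exists_degree_pos χ
    have hzχ : (χ : E → ℂ) z = ω * n := by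
      have := hωχ 1 1
      simpa [pow_one, mul_one, hn] using this
    have hn8 : n ^ 2 ≤ 8 := by
      have hsum := Characters.Complete.finsum_degree_sq (G := E)
      rw [finsum_eq_sum_of_fintype, h8] at hsum
      choose d hd using fun ψ : Cfsg.IrrCharacter E => exists_degree (isCharacter_irr ψ)
      simp only [hd] at hsum
      have h' : ∑ ψ : Cfsg.IrrCharacter E, d ψ ^ 2 = 8 := by exact_mod_cast hsum
      have hdn : d χ = n := Nat.cast_injective (R := ℂ) ((hd χ).symm.trans hn)
      have := Finset.single_le_sum (f := fun ψ : Cfsg.IrrCharacter E => d ψ ^ 2)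
        (fun ψ _ => Nat.zero_le _) (Finset.mem_univ χ)
      rw [h'] at this
      rwa [hdn] at this
    have hn2 : n = 1 ∨ n = 2 := by
      have : n ≤ 2 := by
        by_contra hh
        have h9 := Nat.pow_le_pow_left (show 3 ≤ n by omega) 2
        omega
      omega
    have hval : Cfsg.classInner
        (fun e => 2 * ((if e = 1 then (1 : ℂ) else 0) - (if e = z then 1 else 0))) (χ : E → ℂ) =
          (1 / 4 : ℂ) * (n * (1 - conj ω)) := by
      unfold Cfsg.classInner
      simp only [h8, mul_sub, sub_mul, Finset.sum_sub_distrib, mul_ite, ite_mul, mul_one, mul_zero,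
        zero_mul, Finset.sum_ite_eq', Finset.mem_univ, if_true, hn, hzχ, map_mul, map_natCast]
      push_cast
      ring
    rcases sq_eq_one_iff.1 hω with h | h
    · exact ⟨0, by rw [hval, h, map_one]; push_cast; ring⟩
    · rcases hn2 with h' | h'
      · exfalso
        have hχ1 : (χ : E → ℂ) 1 = 1 := by rw [hn, h', Nat.cast_one]
        have hm := Characters.Linear.apply_mul_of_degree_one (isCharacter_irr χ) hχ1
        have h3 := congrArg (χ : E → ℂ) hab
        rw [hm a b, hm z, hm b a, hzχ, h, h', Nat.cast_one] at h3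
        have h4 : (χ : E → ℂ) a * (χ : E → ℂ) b = 0 := by linear_combination (1 / 2 : ℂ) * h3
        have hne : ∀ g : E, (χ : E → ℂ) g ≠ 0 := fun g h5 => by
          have h6 := hm g g⁻¹
          rw [mul_inv_cancel, h5, zero_mul, hχ1] at h6
          exact one_ne_zero h6
        exact mul_ne_zero (hne a) (hne b) h4
      · exact ⟨1, by rw [hval, h, h', map_neg, map_one]; push_cast; ring⟩

end Cfsg.Agent.Lib.ZStar.GenTools
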