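import Cfsg.Agent.Lib.ZStar.Q8Core
import Cfsg.Agent.Lib.Induced.Character

/-!
# The quaternion Sylow subgroup of order eight: the involution is central

A proof of the theorem of Brauer and Suzuki by ordinary characters and principal block constancy.
-/

set_option autoImplicit false

namespace Cfsg.Agent.Lib.ZStar.Q8

open Cfsg.Agent.Lib.Characters.Basic
open Cfsg.Agent.Lib.Induced
open Cfsg.Agent.Lib.Involutions.Basic
open scoped ComplexConjugate Classical

universe u

variable {G : Type u} [Group G] [Finite G] {t : G}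

/-- A product of two involutions one of which is alone in its centraliser has odd order. -/
theorem odd_orderOf_mul (ht : orderOf t = 2)
    (huniq : ∀ x : G, orderOf x = 2 → Commute t x → x = t) {s : G} (hs : orderOf s = 2) :
    Odd (orderOf (s * t)) := by
  rcases Nat.even_or_odd (orderOf (s * t)) with he | ho
  · exfalso
    have htt := invol_mul_self ht
    have hss := invol_mul_self hs
    have hinv : t * (s * t) * t = (s * t)⁻¹ := by
      rw [mul_inv_rev, invol_inv ht, invol_inv hs, mul_assoc t, mul_assoc s, htt, mul_one]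
    have hzt := huniq _ (orderOf_pow_half he) (commute_pow_half htt hinv he).symm
    have hcomm : Commute (s * t) t := by
      have h := (Commute.refl (s * t)).pow_right (orderOf (s * t) / 2)
      rwa [hzt] at h
    have hst : Commute s t := by
      have h : s * t * t * t = t * (s * t) * t := by rw [hcomm.eq]
      rw [mul_assoc s t t, htt, mul_one, mul_assoc t (s * t) t, mul_assoc s t t, htt, mul_one] at h
      exact h
    have hse : s = t := huniq s hs hst.symm
    rw [hse, htt, orderOf_one] at he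
    exact absurd he (by decide)
  · exact ho

/-- Splitting of two integers bounded by a norm. -/
theorem three_lemma (b : Fin 3 → ℤ) (h : ∑ k, b k = 1) (h2 : ∑ k, b k ^ 2 ≤ 2) :
    ∃ k, ∀ l, b l = if l = k then 1 else 0 := by
  have hb : ∀ k, -1 ≤ b k ∧ b k ≤ 1 := fun k => by
    have hle := (Finset.single_le_sum (fun l _ => sq_nonneg (b l)) (Finset.mem_univ k)).trans h2
    constructor <;> nlinarith
  simp only [Fin.sum_univ_three] at h h2
  obtain ⟨a0, a0'⟩ := hb 0
  obtain ⟨a1, a1'⟩ := hb 1
  obtain ⟨a2, a2'⟩ := hb 2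
  interval_cases h0 : b 0 <;> interval_cases h1 : b 1 <;> interval_cases h3 : b 2 <;>
    norm_num at h <;> norm_num at h2
  all_goals first
    | (refine ⟨0, fun l => ?_⟩; fin_cases l <;> simp [h0, h1, h3]; done)
    | (refine ⟨1, fun l => ?_⟩; fin_cases l <;> simp [h0, h1, h3]; done)
    | (refine ⟨2, fun l => ?_⟩; fin_cases l <;> simp [h0, h1, h3]; done)

/-- A signed decomposition of the induced function. -/
theorem exists_split [Fintype G] (D : Section.Decomp G) {F : G → ℂ}
    (hF : Cfsg.IsGeneralizedCharacter G F) (hnorm : Cfsg.classInner F F = 3)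
    (h1 : Cfsg.classInner F (oneChar G : G → ℂ) = 1)
    (hA : Cfsg.classInner F (Section.fourFun : G → ℂ) = 2) :
    ∃ (k : Fin 3) (s : ℤ) (ψ : Cfsg.IrrCharacter G), s ^ 2 = 1 ∧ ψ ≠ oneChar G ∧
      (∀ l, ψ ≠ D.χ l) ∧
      F = (oneChar G : G → ℂ) + (D.a k : ℂ) • (D.χ k : G → ℂ) + (s : ℂ) • (ψ : G → ℂ) := by
  have := Fintype.ofFinite (Cfsg.IrrCharacter G)
  obtain ⟨c, hc, hFc, hcn⟩ := Generalized.exists_coeff hF
  rw [hnorm] at hcn
  have hn : ∑ χ, c χ ^ 2 = 3 := by exact_mod_cast hcn.symm
  have hc1 : c (oneChar G) = 1 := by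
    have h := (hc _).symm.trans h1
    exact_mod_cast h
  have hfour : (Section.fourFun : G → ℂ) =
      (oneChar G : G → ℂ) + ∑ j, (D.a j : ℂ) • (D.χ j : G → ℂ) := by
    funext g
    simp [← D.sum_eq g, oneChar_apply]
  have hsum : ∑ l, D.a l * c (D.χ l) = 1 := by
    rw [hfour, Induced.Basic.classInner_add_right, Characters.Basic.classInner_sum_right, h1] at hA
    simp only [Induced.Basic.classInner_smul_right, hc, map_intCast] at hA
    have h : ((∑ l, D.a l * c (D.χ l) : ℤ) : ℂ) = ((1 : ℤ) : ℂ) := by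
      push_cast
      linear_combination hA
    exact_mod_cast h
  set T : Finset (Cfsg.IrrCharacter G) := Finset.univ.image D.χ with hT
  have hTsum : ∑ χ ∈ T, c χ ^ 2 = ∑ l, (D.a l * c (D.χ l)) ^ 2 := by
    rw [hT, Finset.sum_image fun x _ y _ h => D.inj h]
    exact Finset.sum_congr rfl fun l _ => by rw [mul_pow, D.sq, one_mul]
  have honeT : oneChar G ∉ T := by
    simp only [hT, Finset.mem_image, Finset.mem_univ, true_and, not_exists]
    exact fun l h => D.ne_one l h
  set U := Finset.univ \ insert (oneChar G) T with hU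
  have htot : 1 + ∑ χ ∈ T, c χ ^ 2 + ∑ χ ∈ U, c χ ^ 2 = 3 := by
    rw [← hn, hU, ← Finset.sum_sdiff (Finset.subset_univ (insert (oneChar G) T)),
      Finset.sum_insert honeT, hc1]
    ring
  have hUnn : 0 ≤ ∑ χ ∈ U, c χ ^ 2 := Finset.sum_nonneg fun χ _ => sq_nonneg _
  obtain ⟨k, hk⟩ := three_lemma (fun l => D.a l * c (D.χ l)) hsum (by rw [← hTsum]; omega)
  have hck : ∀ l, c (D.χ l) = if l = k then D.a l else 0 := fun l => by
    have h : D.a l * c (D.χ l) = if l = k then 1 else 0 := hk l
    calc c (D.χ l) = D.a l * (D.a l * c (D.χ l)) := by rw [← mul_assoc, ← sq, D.sq, one_mul]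
      _ = _ := by rw [h]; split_ifs <;> simp
  have hU1 : ∑ χ ∈ U, c χ ^ 2 = 1 := by
    have : ∑ χ ∈ T, c χ ^ 2 = 1 := by
      rw [hTsum, Finset.sum_congr rfl fun l _ => congrArg (fun z : ℤ => z ^ 2) (hk l)]
      simp
    omega
  obtain ⟨ψ, hψU, hψ0⟩ : ∃ χ ∈ U, c χ ≠ 0 := by
    by_contra hall
    push Not at hall
    rw [Finset.sum_eq_zero fun χ hχ => by rw [hall χ hχ]; norm_num] at hU1
    norm_num at hU1
  have hpos : 0 < c ψ ^ 2 := lt_of_le_of_ne (sq_nonneg _) (Ne.symm (pow_ne_zero 2 hψ0))
  have hψsum := Finset.add_sum_erase U (fun χ => c χ ^ 2) hψU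
  have hrestnn : 0 ≤ ∑ χ ∈ U.erase ψ, c χ ^ 2 := Finset.sum_nonneg fun χ _ => sq_nonneg _
  simp only [hU1] at hψsum
  have hψ1 : c ψ ^ 2 = 1 := by omega
  have hrest : ∀ χ ∈ U, χ ≠ ψ → c χ = 0 := fun χ hχ hne =>
    eq_zero_of_pow_eq_zero ((Finset.sum_eq_zero_iff_of_nonneg fun x _ => sq_nonneg (c x)).1
      (by omega : ∑ χ ∈ U.erase ψ, c χ ^ 2 = 0) χ (Finset.mem_erase.2 ⟨hne, hχ⟩))
  have hψmem := Finset.mem_sdiff.1 hψU
  refine ⟨k, c ψ, ψ, hψ1, fun h => hψmem.2 (h ▸ Finset.mem_insert_self _ _),
    fun l h => hψmem.2 (Finset.mem_insert_of_mem (h ▸ by simp [hT])), ?_⟩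
  rw [hFc, ← Finset.sum_sdiff (Finset.subset_univ (insert (oneChar G) T)),
    Finset.sum_insert honeT, ← hU, Finset.sum_eq_single_of_mem ψ hψU
      fun χ hχ hne => by rw [hrest χ hχ hne, Int.cast_zero, zero_smul],
    hT, Finset.sum_image fun x _ y _ h => D.inj h, hc1, Int.cast_one, one_smul,
    Finset.sum_eq_single k (fun l _ hl => by rw [hck, if_neg hl, Int.cast_zero, zero_smul])
      (fun h => absurd (Finset.mem_univ k) h), hck, if_pos rfl]
  abel

theorem mem_center_of_quaternion (hPC : Reduction.PrincipalConst.{u}) (ht : orderOf t = 2)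
    (huniq : ∀ x : G, orderOf x = 2 → Commute t x → x = t)
    (hO : ∀ N : Subgroup G, N.Normal → Odd (Nat.card N) → N = ⊥) (S : Sylow 2 G) (htS : t ∈ S)
    (e : (S : Subgroup G) ≃* QuaternionGroup 2)
    (IH : ∀ N : Subgroup G, N.Normal → N ≠ ⊤ → ∀ htN : t ∈ N, (⟨t, htN⟩ : N) ∈ Subgroup.center N) :
    t ∈ Subgroup.center G := by
  by_contra hcen
  have := Fintype.ofFinite G
  obtain ⟨M, hM⟩ := Blocks.exists_isPModular 2 Nat.prime_two
  -- the centraliser
  set C : Subgroup G := Subgroup.centralizer ({t} : Set G) with hC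
  have hSC : (S : Subgroup G) ≤ C := by
    intro s hs
    refine Subgroup.mem_centralizer_singleton_iff.2 ?_
    have h := Quat.eq_of_invol S e S.2 (mul_mem (mul_mem hs htS) (inv_mem hs)) htS
      (by rw [orderOf_conj_eq, ht]) ht
    exact mul_inv_eq_iff_eq_mul.1 h
  set SC : Sylow 2 C := S.subtype hSC with hSCdef
  let eC : (SC : Subgroup C) ≃* QuaternionGroup 2 :=
    (Subgroup.subgroupOfEquivOfLe hSC).trans e
  have htC : t ∈ C := hSC htS
  set tC : C := ⟨t, htC⟩ with htCdef
  have htc : tC ∈ Subgroup.center C :=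
    Subgroup.mem_center_iff.2 fun g => Subtype.ext (Subgroup.mem_centralizer_singleton_iff.1 g.2)
  have htC2 : orderOf tC = 2 := (Subgroup.orderOf_mk t htC).trans ht
  -- no normal complements
  have hnocomp : ∀ (P : Sylow 2 G) (N : Subgroup G), N.Normal →
      ¬ Subgroup.IsComplement' N (P : Subgroup G) := by
    intro P N hN hcomp
    have h2 : ¬ 2 ∣ Nat.card N := by
      rw [← hcomp.index_eq_card]
      exact P.not_dvd_index
    have hbot := hO N hN (Nat.odd_iff.2 (by omega))
    have hPtop : (P : Subgroup G) = ⊤ := Subgroup.eq_top_of_card_eq _ (by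
      rw [← hcomp.card_mul_card, hbot]; simp)
    have hStop : (S : Subgroup G) = ⊤ := Subgroup.eq_top_of_card_eq _ (by
      rw [show Nat.card (S : Subgroup G) = Nat.card (P : Subgroup G) from
        Nat.card_congr (S.equiv P).toEquiv, hPtop]
      simp)
    exact hcen (Subgroup.mem_center_iff.2 fun g =>
      Subgroup.mem_centralizer_singleton_iff.1 (hSC (hStop ▸ Subgroup.mem_top g)))
  have hncC : ∀ N : Subgroup C, N.Normal → ¬ Subgroup.IsComplement' N (SC : Subgroup C) := by
    intro N hN hcomp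
    have hC' : Cfsg.HasNormalPComplement 2 C := ⟨SC, N, hN, hcomp⟩
    obtain ⟨P, K, hK, hKP⟩ :=
      Transfer.Frobenius.hasNormalPComplement_of_forall_centralizes (G := G) (p := 2) fun Q hQ hQ1 g hg hgo => by
        obtain ⟨Q₁, hQ₁⟩ := hQ.exists_le_sylow
        obtain ⟨h, hh⟩ := MulAction.exists_smul_eq G Q₁ S
        have hinS : ∀ q ∈ Q, h * q * h⁻¹ ∈ (S : Subgroup G) := fun q hq => by
          rw [← hh, Sylow.coe_subgroup_smul]
          simpa using Subgroup.smul_mem_pointwise_smul (a := MulAut.conj h) q (Q₁ : Subgroup G) (hQ₁ hq)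
        obtain ⟨w, hwQ, hw⟩ : ∃ w ∈ Q, orderOf w = 2 := by
          have hne : Nontrivial Q := (Subgroup.nontrivial_iff_ne_bot Q).2 hQ1
          have h2 : 2 ∣ Nat.card Q := by
            obtain ⟨n, hn0, hn⟩ := hQ.nontrivial_iff_card.1 hne
            rw [hn]
            exact dvd_pow_self 2 (by omega)
          obtain ⟨w, hw⟩ := exists_prime_orderOf_dvd_card' 2 h2
          exact ⟨w, w.2, (Subgroup.orderOf_coe w).trans hw⟩
        have hwt : h * w * h⁻¹ = t := Quat.eq_of_invol S e S.2 (hinS w hwQ) htS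
          (by rw [orderOf_conj_eq, hw]) ht
        have hfix : ∀ g' : G, g' ∈ Subgroup.normalizer (Q : Set G) → g' * w * g'⁻¹ = w := by
          intro g' hg'
          have hm := (Subgroup.mem_normalizer_iff.1 hg' w).1 hwQ
          have h' := Quat.eq_of_invol S e S.2 (hinS _ hm) htS
            (by rw [orderOf_conj_eq, orderOf_conj_eq, hw]) ht
          simpa using h'.trans hwt.symm
        have hgC : h * g * h⁻¹ ∈ C := Subgroup.mem_centralizer_singleton_iff.2 (by
          refine mul_inv_eq_iff_eq_mul.1 ?_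
          rw [← hwt]
          calc h * g * h⁻¹ * (h * w * h⁻¹) * (h * g * h⁻¹)⁻¹ = h * (g * w * g⁻¹) * h⁻¹ := by group
            _ = h * w * h⁻¹ := by rw [hfix g hg])
        set Q' : Subgroup G := Q.map (MulAut.conj h).toMonoidHom with hQ'
        have hQ'C : Q' ≤ C := by
          rintro _ ⟨q, hq, rfl⟩
          exact hSC (hinS q hq)
        have hmemQ' : ∀ q : G, h * q * h⁻¹ ∈ Q' ↔ q ∈ Q := fun q =>
          Subgroup.mem_map_iff_mem (f := (MulAut.conj h).toMonoidHom) (MulAut.conj h).injective
        have key := Transfer.Frobenius.mem_centralizer_of_hasNormalPComplement hC'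
          (Q := Q'.subgroupOf C) (g := ⟨_, hgC⟩)
          ((hQ.map _).of_equiv (Subgroup.subgroupOfEquivOfLe hQ'C).symm) ?_
          (by rwa [Subgroup.orderOf_mk, orderOf_conj_eq])
        · rw [Subgroup.mem_centralizer_iff]
          intro q hq
          have hmem : (⟨h * q * h⁻¹, hQ'C ((hmemQ' q).2 hq)⟩ : C) ∈ Q'.subgroupOf C :=
            Subgroup.mem_subgroupOf.2 ((hmemQ' q).2 hq)
          have h2 := congrArg Subtype.val (Subgroup.mem_centralizer_iff.1 key _ hmem)
          have h3 : h * (q * g) * h⁻¹ = h * (g * q) * h⁻¹ := by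
            calc h * (q * g) * h⁻¹ = h * q * h⁻¹ * (h * g * h⁻¹) := by group
              _ = h * g * h⁻¹ * (h * q * h⁻¹) := h2
              _ = h * (g * q) * h⁻¹ := by group
          simpa using h3
        · rw [Subgroup.mem_normalizer_iff]
          intro q
          simp only [Subgroup.mem_subgroupOf, Subgroup.coe_mul, Subgroup.coe_inv]
          have e1 : h * g * h⁻¹ * (q : G) * (h * g * h⁻¹)⁻¹ =
              h * (g * (h⁻¹ * q * h) * g⁻¹) * h⁻¹ := by group
          rw [e1, hmemQ', ← (Subgroup.mem_normalizer_iff.1 hg _), ← hmemQ']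
          simp [mul_assoc]
    exact hnocomp P K hK hKP
  obtain ⟨DG⟩ := Section.exists_decomp S e hPC hM fun N hN => hnocomp S N hN
  obtain ⟨DC⟩ := Section.exists_decomp SC eC hPC hM hncC
  -- the trivial intersection property
  have TI : ∀ (c : C) (x : G), ¬ Odd (orderOf c) → x⁻¹ * c * x ∈ C → x ∈ C := by
    intro c x hc hxc
    have he : Even (orderOf (c : G)) := by
      rw [Subgroup.orderOf_coe]
      exact Nat.not_odd_iff_even.1 hc
    have hz : (c : G) ^ (orderOf (c : G) / 2) = t := huniq _ (orderOf_pow_half he)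
      (Commute.pow_right (Subgroup.mem_centralizer_singleton_iff.1 c.2).symm _)
    have hxt : x⁻¹ * t * x = (x⁻¹ * c * x) ^ (orderOf (c : G) / 2) := by
      rw [← hz]
      simpa using (conj_pow (i := orderOf (c : G) / 2) (a := x⁻¹) (b := (c : G))).symm
    have h2 := huniq (x⁻¹ * t * x) (by simpa using (orderOf_conj_eq x⁻¹ t).trans ht)
      (by
        rw [hxt]
        exact Commute.pow_right (Subgroup.mem_centralizer_singleton_iff.1 hxc).symm _)
    refine Subgroup.mem_centralizer_singleton_iff.2 ?_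
    rw [mul_assoc, inv_mul_eq_iff_eq_mul] at h2
    exact h2.symm
  have hindC : ∀ θ : C → ℂ, Cfsg.IsClassFunction C θ → (∀ c, Odd (orderOf c) → θ c = 0) →
      (∀ g : G, Odd (orderOf g) → Cfsg.indFun C θ g = 0) ∧
        ∀ c : C, Cfsg.indFun C θ (c : G) = θ c := by
    intro θ hθ h0
    have hz : ∀ g : G, Odd (orderOf g) → ∀ x : G, Cfsg.extendByZero C θ (x⁻¹ * g * x) = 0 := by
      intro g hg x
      by_cases hm : x⁻¹ * g * x ∈ C
      · rw [Induced.Basic.extendByZero_of_mem C θ hm]
        refine h0 _ ?_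
        rw [Subgroup.orderOf_mk]
        have he := orderOf_conj_eq x⁻¹ g
        rw [inv_inv] at he
        rw [he]
        exact hg
      · exact Induced.Basic.extendByZero_of_not_mem C θ hm
    have hodd : ∀ g : G, Odd (orderOf g) → Cfsg.indFun C θ g = 0 := fun g hg => by
      rw [Cfsg.indFun, Finset.sum_eq_zero fun x _ => hz g hg x, mul_zero]
    refine ⟨hodd, fun c => ?_⟩
    by_cases hc : Odd (orderOf c)
    · rw [hodd _ (by rwa [Subgroup.orderOf_coe]), h0 c hc]
    have hterm : ∀ x : G, Cfsg.extendByZero C θ (x⁻¹ * c * x) = if x ∈ C then θ c else 0 := by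
      intro x
      split_ifs with hx
      · have e1 : x⁻¹ * (c : G) * x = (((⟨x, hx⟩ : C)⁻¹ * c * (⟨x, hx⟩ : C) : C) : G) := rfl
        rw [e1, Induced.Basic.extendByZero_coe]
        simpa using hθ c (⟨x, hx⟩ : C)⁻¹
      · exact Induced.Basic.extendByZero_of_not_mem C θ fun hm => hx (TI c x hc hm)
    rw [Cfsg.indFun, Finset.sum_congr rfl fun x _ => hterm x, ← Finset.sum_filter, Finset.sum_const,
      nsmul_eq_mul, ← Fintype.card_subtype, ← Nat.card_eq_fintype_card]
    rw [← mul_assoc, inv_mul_cancel₀ (Nat.cast_ne_zero.2 Nat.card_pos.ne'), one_mul]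
  have hinner : ∀ θ : C → ℂ, Cfsg.IsClassFunction C θ → (∀ c, Odd (orderOf c) → θ c = 0) →
      ∀ θ' : C → ℂ, Cfsg.IsClassFunction C θ' → (∀ c, Odd (orderOf c) → θ' c = 0) →
      Cfsg.classInner (Cfsg.indFun C θ) (Cfsg.indFun C θ') = Cfsg.classInner θ θ' := by
    intro θ _ _ θ' h1 h2
    rw [Induced.Basic.frobenius_reciprocity C θ (Induced.Basic.isClassFunction_indFun C θ')]
    congr 1
    exact funext fun c => (hindC θ' h1 h2).2 c
  -- the induced characters
  set f : Fin 3 → C → ℂ := fun i => Q8Local.fFun (Q8Core.eta DC i) with hf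
  have hfgen : ∀ i, Cfsg.IsGeneralizedCharacter C (f i) := Q8Core.fFun_gen SC eC htc htC2 DC
  have hfcl := fun i => Generalized.isClassFunction_of_isGen (hfgen i)
  have hf0 : ∀ i (c : C), Odd (orderOf c) → f i c = 0 := fun i c hc => if_pos hc
  set F : Fin 3 → G → ℂ := fun i => Cfsg.indFun C (f i) with hF
  have hFgen : ∀ i, Cfsg.IsGeneralizedCharacter G (F i) := fun i =>
    Induced.Character.isGeneralizedCharacter_indFun C (hfgen i)
  have hFodd : ∀ i g, Odd (orderOf g) → F i g = 0 := fun i => (hindC _ (hfcl i) (hf0 i)).1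
  have hFij : ∀ i j, Cfsg.classInner (F i) (F j) = 2 * (if i = j then 1 else 0) + 1 := fun i j => by
    rw [hinner _ (hfcl i) (hf0 i) _ (hfcl j) (hf0 j)]
    exact (Q8Core.fFun_inner SC eC hncC htc htC2 DC i j).1
  have hF1 : ∀ i, Cfsg.classInner (F i) (oneChar G : G → ℂ) = 1 := fun i => by
    rw [Induced.Basic.frobenius_reciprocity C _ (isClassFunction_irr _)]
    simp only [oneChar_apply]
    exact (Q8Core.fFun_inner SC eC hncC htc htC2 DC i i).2.1
  have hFA : ∀ i, Cfsg.classInner (F i) (Section.fourFun : G → ℂ) = 2 := fun i => by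
    rw [Induced.Basic.frobenius_reciprocity C _ Section.fourFun_classFun]
    have hres : (fun c : C => (Section.fourFun (c : G) : ℂ)) = Section.fourFun := funext fun c => by
      simp only [Section.fourFun, Subgroup.orderOf_coe]
    rw [hres]
    exact (Q8Core.fFun_inner SC eC hncC htc htC2 DC i i).2.2
  choose σ s ψ hs hψ1 hψT hFeq using fun i =>
    exists_split DG (hFgen i) (by rw [hFij, if_pos rfl]; norm_num) (hF1 i) (hFA i)
  have hψ' : ∀ i l, DG.χ l ≠ ψ i := fun i l h => hψT i l h.symm
  have hσ : Function.Injective σ := by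
    intro i j hij
    by_contra hne
    have hb := hFij i j
    rw [if_neg hne, mul_zero, zero_add, hFeq i, hFeq j, hij] at hb
    simp only [Induced.Basic.classInner_add_left, Induced.Basic.classInner_add_right,
      Induced.Basic.classInner_smul_left, Induced.Basic.classInner_smul_right, classInner_irr,
      map_intCast, if_true, if_neg (DG.ne_one (σ j)), if_neg (DG.ne_one (σ j)).symm,
      if_neg (hψ1 i), if_neg (hψ1 j).symm,
      if_neg (hψT i (σ j)), if_neg (hψ' j (σ j)), mul_zero, add_zero, zero_add, mul_one] at hb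
    have ha : (DG.a (σ j) : ℂ) * (DG.a (σ j) : ℂ) = 1 := by
      rw [← sq, ← Int.cast_pow, DG.sq, Int.cast_one]
    by_cases hψe : ψ i = ψ j
    · rw [if_pos hψe, mul_one] at hb
      have h1i := hFodd i 1 (by simp)
      have h1j := hFodd j 1 (by simp)
      rw [hFeq i] at h1i
      rw [hFeq j] at h1j
      simp only [Pi.add_apply, Pi.smul_apply, smul_eq_mul, hij, hψe] at h1i h1j
      have hsij : (s i : ℂ) = s j :=
        mul_right_cancel₀ (apply_one_ne_zero (ψ j)) (by linear_combination h1i - h1j)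
      have hsj : (s j : ℂ) * s j = 1 := by rw [← sq, ← Int.cast_pow, hs, Int.cast_one]
      rw [hsij] at hb
      norm_num [ha, hsj] at hb
    · rw [if_neg hψe] at hb
      norm_num [ha] at hb
  have hσb : Function.Bijective σ := Finite.injective_iff_bijective.1 hσ
  set ψC : Fin 3 → C → ℂ := fun j c => (DG.a (σ j) : ℂ) * (DG.χ (σ j) : G → ℂ) c with hψC
  have hψgen : ∀ j, Cfsg.IsGeneralizedCharacter C (ψC j) := fun j =>
    Generalized.isGen_comp C.subtype
      (Generalized.isGen_zsmul (Generalized.of_irr (DG.χ (σ j))) (DG.a (σ j)))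
  obtain ⟨j, hj⟩ := Q8Core.exists_fixed SC eC hncC htc htC2 DC ψC hψgen
    (fun j c hc => DG.on_four (σ j) (c : G) (by rwa [Subgroup.orderOf_coe]))
    (fun c hc => by
      have h4 : ¬ 4 ∣ orderOf ((tC * c : C) : G) := by
        rw [Subgroup.orderOf_coe, Q8Local.four_translate SC eC htc htC2]
        exact fun h => Nat.not_even_iff_odd.2 hc (even_iff_two_dvd.2 (dvd_trans (by norm_num) h))
      have hk := DG.sum_eq ((tC * c : C) : G)
      rw [Section.fourFun, if_neg h4,
        ← hσb.sum_comp (fun k => (DG.a k : ℂ) * (DG.χ k : G → ℂ) ((tC * c : C) : G))] at hk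
      simp only [hψC]
      linear_combination hk)
    (fun i j => by
      have h := (Induced.Basic.frobenius_reciprocity C (f i)
        (χ := (DG.a (σ j) : ℂ) • (DG.χ (σ j) : G → ℂ))
        (Characters.Complete.classFun_smul _ (isClassFunction_irr _))).symm
      refine h.trans ?_
      change Cfsg.classInner (F i) _ = _
      rw [hFeq i]
      simp only [Induced.Basic.classInner_add_left, Induced.Basic.classInner_smul_left,
        Induced.Basic.classInner_smul_right, classInner_irr, map_intCast,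
        if_neg (DG.ne_one (σ j)).symm, if_neg (hψT i (σ j)), DG.inj.eq_iff, hσ.eq_iff]
      rcases eq_or_ne i j with rfl | hne
      · simp only [if_true]
        simp only [mul_zero, add_zero, zero_add, mul_one]
        rw [← sq, ← Int.cast_pow, DG.sq, Int.cast_one]
      · simp [hne])
    (fun j => by
      set χ := DG.χ (σ j) with hχ
      set κ : G → ℂ := Q8Local.evenFun (fun g : G => (DG.a (σ j) : ℂ) * (χ : G → ℂ) g) with hκ
      have hκcl : Cfsg.IsClassFunction G κ := fun g h => by
        simp only [hκ, Q8Local.evenFun, orderOf_conj_eq, isClassFunction_irr χ g h]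
      have hk0 : ∀ c : C, Odd (orderOf c) → Q8Local.evenFun (ψC j) c = 0 := fun c hc => if_pos hc
      have hkcl : Cfsg.IsClassFunction C (Q8Local.evenFun (ψC j)) := fun g h => by
        simp only [Q8Local.evenFun, orderOf_conj_eq,
          Generalized.isClassFunction_of_isGen (hψgen j) g h]
      have hres : (fun c : C => κ (c : G)) = Q8Local.evenFun (ψC j) := funext fun c => by
        simp only [hκ, Q8Local.evenFun, Subgroup.orderOf_coe, hψC, hχ]
      have hind : Cfsg.indFun C (Q8Local.evenFun (ψC j)) = κ := by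
        funext g
        by_cases hg : Odd (orderOf g)
        · rw [(hindC _ hkcl hk0).1 g hg]
          simp only [hκ, Q8Local.evenFun, if_pos hg]
        · have he : Even (orderOf g) := Nat.not_odd_iff_even.1 hg
          have hw := orderOf_pow_half he
          obtain ⟨Q₁, hQ₁⟩ :=
            (Quat.isPGroup_zpowers (k := 1) (by rw [hw, pow_one])).exists_le_sylow
              (G := G) (P := Subgroup.zpowers (g ^ (orderOf g / 2)))
          obtain ⟨h, hh⟩ := MulAction.exists_smul_eq G Q₁ S
          have hmem : h * g ^ (orderOf g / 2) * h⁻¹ ∈ (S : Subgroup G) := by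
            rw [← hh, Sylow.coe_subgroup_smul]
            simpa using Subgroup.smul_mem_pointwise_smul (a := MulAut.conj h) _ (Q₁ : Subgroup G)
              (hQ₁ (Subgroup.mem_zpowers _))
          have hwt : h * g ^ (orderOf g / 2) * h⁻¹ = t :=
            Quat.eq_of_invol S e S.2 hmem htS (by rw [orderOf_conj_eq, hw]) ht
          have hgC : h * g * h⁻¹ ∈ C := Subgroup.mem_centralizer_singleton_iff.2 (by
            rw [← hwt, ← conj_pow]
            exact ((Commute.refl _).pow_right _).eq)
          rw [← Induced.Basic.isClassFunction_indFun C (Q8Local.evenFun (ψC j)) g h,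
            show h * g * h⁻¹ = ((⟨_, hgC⟩ : C) : G) from rfl, (hindC _ hkcl hk0).2, ← hres]
          exact hκcl g h
      have heq : Cfsg.classInner (Q8Local.evenFun (ψC j)) (Q8Local.evenFun (ψC j)) =
          Cfsg.classInner κ κ := by
        conv_rhs => arg 1; rw [← hind]
        rw [Induced.Basic.frobenius_reciprocity C _ hκcl, hres]
      rw [heq]
      have hne : (0 : ℝ) < ((Nat.card G : ℝ))⁻¹ := inv_pos.2 (Nat.cast_pos.2 Nat.card_pos)
      have hval : ∀ φ : G → ℂ, (Cfsg.classInner φ φ).re =
          ((Nat.card G : ℝ))⁻¹ * ∑ g, Complex.normSq (φ g) := fun φ => by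
        rw [Cfsg.classInner]
        simp only [Complex.mul_conj, ← Complex.ofReal_natCast, ← Complex.ofReal_inv,
          ← Complex.ofReal_sum, ← Complex.ofReal_mul, Complex.ofReal_re]
      have hχn : (Cfsg.classInner (χ : G → ℂ) (χ : G → ℂ)).re = 1 := by
        rw [classInner_self_irr]; simp
      rw [hval, ← hχn, hval]
      refine mul_lt_mul_of_pos_left (Finset.sum_lt_sum (fun g _ => ?_) ⟨1, Finset.mem_univ _, ?_⟩) hne
      · simp only [hκ, Q8Local.evenFun]
        split_ifs
        · simpa using Complex.normSq_nonneg _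
        · have hsq : Complex.normSq ((DG.a (σ j) : ℂ)) = 1 := by
            rw [Complex.normSq_intCast]
            have h2 := DG.sq (σ j)
            rw [sq] at h2
            exact_mod_cast h2
          rw [Complex.normSq_mul, hsq, one_mul]
      · simp only [hκ, Q8Local.evenFun, orderOf_one, odd_one, if_true, map_zero]
        exact Complex.normSq_pos.2 (apply_one_ne_zero χ))
  -- the character `χ` has `t` in its kernel
  set χ := DG.χ (σ j) with hχ
  set a : ℂ := ((DG.a (σ j) : ℤ) : ℂ) with ha
  set w : ℂ := Q8Core.eta DC j 1 with hw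
  have haw : a * (χ : G → ℂ) t = w := hj
  have hFt : F j t = 2 * (1 + w) := by
    simp only [hF]
    rw [show t = ((tC : C) : G) from rfl, (hindC _ (hfcl j) (hf0 j)).2]
    have h := (Q8Core.fFun_translate SC eC htc htC2 _ (Q8Core.eta_inv SC eC htc htC2 DC j)
      (g := (1 : C)) (by simp)).2
    rwa [mul_one] at h
  have h1 := hFodd j 1 (by simp)
  rw [hFeq j] at hFt h1
  simp only [Pi.add_apply, Pi.smul_apply, smul_eq_mul, oneChar_apply, ← hχ, ← ha] at hFt h1
  have hsum : ∑ v : G, F j (v * t * v⁻¹ * t) = 0 := Finset.sum_eq_zero fun v _ =>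
    hFodd j _ (odd_orderOf_mul ht huniq (by rw [orderOf_conj_eq, ht]))
  rw [hFeq j] at hsum
  simp only [Pi.add_apply, Pi.smul_apply, smul_eq_mul, Finset.sum_add_distrib, ← Finset.mul_sum,
    oneChar_apply, ← hχ, ← ha, Blocks.sum_char_conj_mul, Finset.sum_const, Finset.card_univ,
    nsmul_eq_mul, mul_one, ← Nat.card_eq_fintype_card] at hsum
  have hGne : (Nat.card G : ℂ) ≠ 0 := Nat.cast_ne_zero.2 Nat.card_pos.ne'
  have hd1 := apply_one_ne_zero χ
  have hp1 := apply_one_ne_zero (ψ j)
  have haa : a * a = 1 := by rw [ha, ← sq, ← Int.cast_pow, DG.sq, Int.cast_one]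
  have hss : (s j : ℂ) * s j = 1 := by rw [← sq, ← Int.cast_pow, hs, Int.cast_one]
  set X := (χ : G → ℂ) t
  set d := (χ : G → ℂ) 1
  set Y := (ψ j : G → ℂ) t
  set p := (ψ j : G → ℂ) 1
  set S' := (s j : ℂ)
  have hq : d * p + a * X * X * p + S' * Y * Y * d = 0 := by
    field_simp at hsum
    refine mul_left_cancel₀ hGne ?_
    rw [mul_zero]
    linear_combination hsum
  have hD : a * d * (S' * p) + (a * X) * (a * X) * (S' * p) + (S' * Y) * (S' * Y) * (a * d) = 0 := by
    linear_combination a * S' * hq + a * S' * X * X * p * (haa.symm.trans haa) +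
      (0 : ℂ) * hss
  have hS'Y : S' * Y = 1 + w := by linear_combination hFt - haw
  have hS'p : S' * p = -1 - a * d := by linear_combination h1
  rw [haw, hS'Y, hS'p] at hD
  have hwd : (w - a * d) ^ 2 = 0 := by linear_combination -hD
  have hXd : X = d := by
    have h0 := sub_eq_zero.1 (eq_zero_of_pow_eq_zero hwd)
    rw [← haw] at h0
    exact mul_left_cancel₀ (left_ne_zero_of_mul_eq_one haa) h0
  set N := Characters.Kernel.charKer (isCharacter_irr χ) with hN
  have htN : t ∈ N := (Characters.Kernel.mem_charKer _ _).2 hXd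
  have hNn : N.Normal := Characters.Kernel.charKer_normal _
  have hNtop : N ≠ ⊤ := by
    intro htop
    have hconst : (χ : G → ℂ) = d • (oneChar G : G → ℂ) := funext fun g => by
      simp only [Pi.smul_apply, smul_eq_mul, oneChar_apply, mul_one]
      exact (Characters.Kernel.mem_charKer _ g).1 (htop ▸ Subgroup.mem_top g)
    have h0 : Cfsg.classInner (χ : G → ℂ) (oneChar G : G → ℂ) = 0 := by
      rw [classInner_irr, if_neg (DG.ne_one (σ j))]
    rw [hconst, Induced.Basic.classInner_smul_left, classInner_self_irr, mul_one] at h0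
    exact hd1 h0
  have hcN := IH N hNn hNtop htN
  refine hcen (Subgroup.mem_center_iff.2 fun g => ?_)
  have hgt : g * t * g⁻¹ ∈ N := hNn.conj_mem t htN g
  have hcomm : t * (g * t * g⁻¹) = g * t * g⁻¹ * t :=
    (congrArg Subtype.val (Subgroup.mem_center_iff.1 hcN ⟨_, hgt⟩)).symm
  exact mul_inv_eq_iff_eq_mul.1 (huniq _ (by rw [orderOf_conj_eq, ht]) hcomm)

end Cfsg.Agent.Lib.ZStar.Q8
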