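import Cfsg.Agent.Lib.ZStar.Q8Local

/-!
# The norm argument in the centraliser of the involution
-/

set_option autoImplicit false

namespace Cfsg.Agent.Lib.ZStar.Q8Core

open Cfsg.Agent.Lib.Characters.Basic
open Cfsg.Agent.Lib.Induced
open Cfsg.Agent.Lib.ZStar.Q8Local
open scoped ComplexConjugate Classical

universe u

variable {C : Type u} [Group C] [Fintype C]

theorem oddSum_congr {φ φ' : C → ℂ} (h : ∀ g, Odd (orderOf g) → φ g = φ' g) :
    oddSum φ = oddSum φ' := by
  unfold oddSum
  rw [Finset.sum_congr rfl fun g hg => h g (Finset.mem_filter.1 hg).2]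

theorem oddSum_add (φ φ' : C → ℂ) :
    oddSum (fun g => φ g + φ' g) = oddSum φ + oddSum φ' := by
  unfold oddSum
  rw [Finset.sum_add_distrib, mul_add]

theorem oddSum_sub (φ φ' : C → ℂ) :
    oddSum (fun g => φ g - φ' g) = oddSum φ - oddSum φ' := by
  unfold oddSum
  rw [Finset.sum_sub_distrib, mul_sub]

theorem oddSum_smul (c : ℂ) (φ : C → ℂ) : oddSum (fun g => c * φ g) = c * oddSum φ := by
  unfold oddSum
  rw [← Finset.mul_sum]
  ring

theorem oddSum_conj (φ : C → ℂ) : oddSum (fun g => conj (φ g)) = conj (oddSum φ) := by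
  unfold oddSum
  rw [map_mul, map_inv₀, map_natCast, map_sum]

theorem oddSum_sum {ι : Type*} (s : Finset ι) (φ : ι → C → ℂ) :
    oddSum (fun g => ∑ i ∈ s, φ i g) = ∑ i ∈ s, oddSum (φ i) := by
  unfold oddSum
  rw [Finset.sum_comm, Finset.mul_sum]

theorem oddSum_normSq (φ : C → ℂ) : 0 ≤ (oddSum fun g => φ g * conj (φ g)).re ∧
    ((oddSum fun g => φ g * conj (φ g)) = 0 → φ 1 = 0) := by
  have h : ∀ g, φ g * conj (φ g) = (Complex.normSq (φ g) : ℂ) := fun g => Complex.mul_conj _
  have hne : (0 : ℝ) < ((Nat.card C : ℝ))⁻¹ := inv_pos.2 (Nat.cast_pos.2 Nat.card_pos)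
  unfold oddSum
  simp only [h, ← Complex.ofReal_natCast, ← Complex.ofReal_inv, ← Complex.ofReal_sum,
    ← Complex.ofReal_mul, Complex.ofReal_re, Complex.ofReal_eq_zero]
  refine ⟨mul_nonneg hne.le (Finset.sum_nonneg fun g _ => Complex.normSq_nonneg _), fun h0 => ?_⟩
  have h1 := (Finset.sum_eq_zero_iff_of_nonneg fun g _ => Complex.normSq_nonneg (φ g)).1
    ((mul_eq_zero.1 h0).resolve_left hne.ne') 1 (by simp)
  exact Complex.normSq_eq_zero.1 h1

/-- The signed characters of the section. -/
noncomputable def eta (D : Section.Decomp C) (j : Fin 3) (g : C) : ℂ :=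
  (D.a j : ℂ) * (D.χ j : C → ℂ) g

theorem eta_gen (D : Section.Decomp C) (j : Fin 3) :
    Cfsg.IsGeneralizedCharacter C (eta D j) :=
  Generalized.isGen_zsmul (Generalized.of_irr (D.χ j)) (D.a j)

theorem eta_inner (D : Section.Decomp C) (i j : Fin 3) :
    Cfsg.classInner (eta D i) (eta D j) = if i = j then 1 else 0 := by
  have h : ∀ k, eta D k = (D.a k : ℂ) • (D.χ k : C → ℂ) := fun k => rfl
  rw [h, h, Induced.Basic.classInner_smul_left, Induced.Basic.classInner_smul_right, classInner_irr]
  rcases eq_or_ne i j with rfl | hne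
  · rw [if_pos rfl, if_pos rfl, map_intCast, mul_one, ← sq, ← Int.cast_pow, D.sq, Int.cast_one]
  · rw [if_neg (fun hh => hne (D.inj hh)), if_neg hne]
    ring

theorem eta_inner_one (D : Section.Decomp C) (i : Fin 3) :
    Cfsg.classInner (eta D i) (fun _ => 1) = 0 := by
  have h : eta D i = (D.a i : ℂ) • (D.χ i : C → ℂ) := rfl
  have h' : (fun _ : C => (1 : ℂ)) = (oneChar C : C → ℂ) := funext fun g => (oneChar_apply g).symm
  rw [h, h', Induced.Basic.classInner_smul_left, classInner_irr, if_neg (D.ne_one i), mul_zero]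

variable (S : Sylow 2 C) (e : (S : Subgroup C) ≃* QuaternionGroup 2)
  (hnc : ∀ N : Subgroup C, N.Normal → ¬ Subgroup.IsComplement' N (S : Subgroup C))
  {t : C} (htc : t ∈ Subgroup.center C) (ht : orderOf t = 2) (D : Section.Decomp C)

include S e htc ht

/-- The signed characters are trivial on `t`. -/
theorem eta_inv (j : Fin 3) (g : C) : eta D j (t * g) = eta D j g := by
  have := Fintype.ofFinite (Cfsg.IrrCharacter C)
  choose ω hω1 hω2 using fun χ : Cfsg.IrrCharacter C =>
    GenChar.exists_central_scalar χ htc (orderOf_dvd_iff_pow_eq_one.1 ht.dvd)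
  have hω : ∀ (χ : Cfsg.IrrCharacter C) (x : C), (χ : C → ℂ) (t * x) = ω χ * (χ : C → ℂ) x :=
    fun χ x => by simpa using hω2 χ 1 x
  have hz : (∑ k, ((D.a k : ℂ) * (ω (D.χ k) - 1)) • (D.χ k : C → ℂ)) = 0 := by
    funext x
    have h1 := D.sum_eq (t * x)
    rw [Section.fourFun, if_congr (Q8Local.four_translate S e htc ht x) rfl rfl] at h1
    change _ = Section.fourFun x at h1
    rw [← D.sum_eq x] at h1
    simp only [hω, Fin.sum_univ_three] at h1
    simp only [Finset.sum_apply, Pi.smul_apply, smul_eq_mul, Pi.zero_apply, Fin.sum_univ_three]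
    linear_combination h1
  have hc := congrArg (fun F => Cfsg.classInner F (D.χ j : C → ℂ)) hz
  simp only [Generalized.classInner_sum_left', Induced.Basic.classInner_smul_left, classInner_irr,
    classInner_zero_left, D.inj.eq_iff, mul_ite, mul_one, mul_zero, Finset.sum_ite_eq',
    Finset.mem_univ, if_true] at hc
  rcases mul_eq_zero.1 hc with h | h
  · have := D.sq j
    rw [Int.cast_eq_zero] at h
    rw [h] at this
    norm_num at this
  · rw [eta, eta, hω, sub_eq_zero.1 h, one_mul]

omit S e htc ht in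
theorem eta_four (j : Fin 3) {g : C} (hg : 4 ∣ orderOf g) : eta D j g = 1 := D.on_four j g hg

omit S e htc ht in
theorem eta_sum {g : C} (hg : ¬ 4 ∣ orderOf g) : ∑ j, eta D j g = -1 := by
  have h := D.sum_eq g
  rw [Section.fourFun, if_neg hg] at h
  unfold eta
  linear_combination h

include hnc in
theorem eta_oddSum (i j : Fin 3) :
    oddSum (fun g => eta D i g * conj (eta D j g)) = ((if i = j then 1 else 0) - 1 / 4) / 2 ∧
      oddSum (fun g => eta D i g) = -(1 / 8) := by
  constructor
  · have h := classInner_split S e htc ht hnc (φ := eta D i) (ψ := eta D j) (k := 1)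
      (fun g hg => by rw [eta_four D i hg, eta_four D j hg, map_one, mul_one])
    simp only [eta_inv S e htc ht D] at h
    rw [eta_inner, oddSum_add] at h
    linear_combination -(1 / 2 : ℂ) * h
  · have h := classInner_split S e htc ht hnc (φ := eta D i) (ψ := fun _ => 1) (k := 1)
      (fun g hg => by rw [eta_four D i hg, map_one, mul_one])
    simp only [eta_inv S e htc ht D, map_one, mul_one] at h
    rw [eta_inner_one, oddSum_add] at h
    linear_combination -(1 / 2 : ℂ) * h

theorem fFun_translate (η : C → ℂ) (hη : ∀ g, η (t * g) = η g) {g : C} (hg : Odd (orderOf g)) :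
    fFun η g = 0 ∧ fFun η (t * g) = 2 * (1 + η g) := by
  have h1 : ¬ Odd (orderOf (t * g)) := fun h => ((odd_translate S e htc ht g).1 h).1 hg
  have h2 : ¬ 4 ∣ orderOf (t * g) := fun h =>
    Nat.not_even_iff_odd.2 hg (even_iff_two_dvd.2
      (dvd_trans (by norm_num) ((four_translate S e htc ht g).1 h)))
  exact ⟨if_pos hg, by rw [fFun, if_neg h1, if_neg h2, hη]⟩

theorem fFun_four (η : C → ℂ) {g : C} (hg : 4 ∣ orderOf g) : fFun η g = 2 := by
  have h1 : ¬ Odd (orderOf g) := fun h =>
    Nat.not_even_iff_odd.2 h (even_iff_two_dvd.2 (dvd_trans (by norm_num) hg))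
  rw [fFun, if_neg h1, if_pos hg]

theorem fFun_gen (j : Fin 3) : Cfsg.IsGeneralizedCharacter C (fFun (eta D j)) := by
  have h1 : Cfsg.IsGeneralizedCharacter C (eta D j - fun _ => ((1 : ℤ) : ℂ)) :=
    Generalized.isGen_sub (eta_gen D j) (Generalized.isGen_const 1)
  have h2 := isGen_hFun S e htc ht h1 (fun g => by simp [eta_inv S e htc ht D])
    (fun g hg => by simp [eta_four D j hg])
  convert Generalized.isGen_add (isGen_hZero S e htc ht) h2 using 1
  funext g
  simp only [fFun, hZero, hFun, Pi.add_apply, Pi.sub_apply, Int.cast_one]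
  split_ifs <;> ring

include hnc in
theorem fFun_inner (i j : Fin 3) :
    Cfsg.classInner (fFun (eta D i)) (fFun (eta D j)) = 2 * (if i = j then 1 else 0) + 1 ∧
      Cfsg.classInner (fFun (eta D i)) (fun _ => 1) = 1 ∧
      Cfsg.classInner (fFun (eta D i)) Section.fourFun = 2 := by
  have hv := fun (k : Fin 3) (g : C) (hg : Odd (orderOf g)) =>
    fFun_translate S e htc ht (eta D k) (eta_inv S e htc ht D k) hg
  refine ⟨?_, ?_, ?_⟩
  · rw [classInner_split S e htc ht hnc (k := 4) fun g hg => by
      rw [fFun_four S e htc ht _ hg, fFun_four S e htc ht _ hg, map_ofNat]; norm_num]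
    rw [oddSum_congr (φ' := fun g => 4 * (((1 : ℂ) + eta D i g) +
      (conj (eta D j g) + eta D i g * conj (eta D j g)))) fun g hg => by
        rw [(hv i g hg).1, (hv i g hg).2, (hv j g hg).2, map_mul, map_add, map_one, map_ofNat]
        ring]
    rw [oddSum_smul, oddSum_add, oddSum_add, oddSum_add, oddSum_conj, oddSum_one S e htc ht hnc,
      (eta_oddSum S e hnc htc ht D i j).1, (eta_oddSum S e hnc htc ht D i j).2,
      (eta_oddSum S e hnc htc ht D j j).2, map_neg, map_div₀, map_one, map_ofNat]
    ring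
  · rw [classInner_split S e htc ht hnc (k := 2) fun g hg => by
      rw [fFun_four S e htc ht _ hg, map_one, mul_one]]
    rw [oddSum_congr (φ' := fun g => 2 * ((1 : ℂ) + eta D i g)) fun g hg => by
      rw [(hv i g hg).1, (hv i g hg).2, map_one]; ring]
    rw [oddSum_smul, oddSum_add, oddSum_one S e htc ht hnc, (eta_oddSum S e hnc htc ht D i j).2]
    ring
  · rw [classInner_split S e htc ht hnc (k := 8) fun g hg => by
      rw [fFun_four S e htc ht _ hg, Section.fourFun, if_pos hg, map_ofNat]; norm_num]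
    rw [oddSum_congr (φ' := fun g => (0 : ℂ) * 1) fun g hg => by
      have h4 : ¬ 4 ∣ orderOf g := fun h =>
        Nat.not_even_iff_odd.2 hg (even_iff_two_dvd.2 (dvd_trans (by norm_num) h))
      have h4' : ¬ 4 ∣ orderOf (t * g) := fun h => h4 ((four_translate S e htc ht g).1 h)
      rw [Section.fourFun, Section.fourFun, if_neg h4, if_neg h4', map_zero]
      ring]
    rw [oddSum_smul]
    ring

include hnc in
/-- The norm argument. -/
theorem exists_fixed (ψ : Fin 3 → C → ℂ) (hgen : ∀ j, Cfsg.IsGeneralizedCharacter C (ψ j))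
    (hfour : ∀ j g, 4 ∣ orderOf g → ψ j g = 1)
    (hsum : ∀ g, Odd (orderOf g) → ∑ j, ψ j (t * g) = -1)
    (horth : ∀ i j, Cfsg.classInner (fFun (eta D i)) (ψ j) = if i = j then 1 else 0)
    (hbound : ∀ j, (Cfsg.classInner (evenFun (ψ j)) (evenFun (ψ j))).re < 1) :
    ∃ j, ψ j t = eta D j 1 := by
  set φ : Fin 3 → C → ℂ := fun j g => ψ j (t * g) with hφ
  have hrel : ∀ i j, oddSum (fun g => conj (φ j g) + eta D i g * conj (φ j g)) =
      ((if i = j then 1 else 0) - 1 / 2) / 2 := by
    intro i j
    have h := horth i j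
    rw [classInner_split S e htc ht hnc (k := 2) fun g hg => by
      rw [fFun_four S e htc ht _ hg, hfour j g hg, map_one, mul_one]] at h
    rw [oddSum_congr (φ' := fun g => 2 * (conj (φ j g) + eta D i g * conj (φ j g))) fun g hg => by
      have hv := fFun_translate S e htc ht (eta D i) (eta_inv S e htc ht D i) hg
      rw [hv.1, hv.2, hφ]
      ring, oddSum_smul] at h
    linear_combination (1 / 2 : ℂ) * h
  have hφc : ∀ j, oddSum (fun g => conj (φ j g)) = -(1 / 8) := by
    intro j
    have h : ∑ i, oddSum (fun g => conj (φ j g) + eta D i g * conj (φ j g)) =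
        oddSum (fun g => 2 * conj (φ j g)) := by
      rw [← oddSum_sum]
      refine oddSum_congr fun g hg => ?_
      have hs := eta_sum D (g := g) fun h4 =>
        Nat.not_even_iff_odd.2 hg (even_iff_two_dvd.2 (dvd_trans (by norm_num) h4))
      rw [Finset.sum_add_distrib, ← Finset.sum_mul, hs, Finset.sum_const, Finset.card_univ,
        Fintype.card_fin]
      simp
      ring
    simp only [hrel, oddSum_smul] at h
    rw [← Finset.sum_div, Finset.sum_sub_distrib] at h
    simp at h
    linear_combination -(1 / 2 : ℂ) * h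
  have hηφ : ∀ i j, oddSum (fun g => eta D i g * conj (φ j g)) =
      ((if i = j then 1 else 0) - 1 / 4) / 2 := by
    intro i j
    have h := hrel i j
    rw [oddSum_add, hφc] at h
    linear_combination h
  set d : Fin 3 → C → ℂ := fun j g => φ j g - eta D j g with hd
  have hηd : ∀ i j, oddSum (fun g => eta D i g * conj (d j g)) = 0 := by
    intro i j
    simp only [hd, map_sub, mul_sub, oddSum_sub, hηφ, (eta_oddSum S e hnc htc ht D i j).1, sub_self]
  have hdη : ∀ i j, oddSum (fun g => d i g * conj (eta D j g)) = 0 := by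
    intro i j
    have h := congrArg conj (hηd j i)
    rw [← oddSum_conj, map_zero] at h
    rw [← h]
    exact oddSum_congr fun g _ => by rw [map_mul, Complex.conj_conj, mul_comm]
  have hint : ∀ i j, ∃ m : ℤ, 4 * oddSum (fun g => d i g * conj (d j g)) = m := by
    intro i j
    set Ψ : C → ℂ := (fun g => 2 * phiFun t (ψ i) g) - (2 : ℂ) • eta D i with hΨ
    have hΨgen : Cfsg.IsGeneralizedCharacter C Ψ := by
      refine Generalized.isGen_sub (isGen_two_phiFun S e htc ht (hgen i) (hfour i)) ?_
      simpa using Generalized.isGen_zsmul (eta_gen D i) 2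
    have hinv : ∀ g, Ψ (t * g) = Ψ g := fun g => by
      simp [hΨ, phiFun_inv S e htc ht, eta_inv S e htc ht D]
    have h0 : ∀ g, 4 ∣ orderOf g → Ψ g = 0 := fun g hg => by
      simp [hΨ, phiFun, if_pos hg, eta_four D i hg]
    obtain ⟨m, hm⟩ := Generalized.exists_classInner_int (isGen_hFun S e htc ht hΨgen hinv h0)
      (hgen j)
    refine ⟨m, ?_⟩
    rw [← hm, classInner_split S e htc ht hnc (k := 0) fun g hg => by
      have hn : ¬ Odd (orderOf g) := fun h =>
        Nat.not_even_iff_odd.2 h (even_iff_two_dvd.2 (dvd_trans (by norm_num) hg))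
      rw [hFun, if_neg hn, if_pos hg, zero_mul]]
    rw [oddSum_congr (φ := fun g => hFun Ψ g * conj (ψ j g) + hFun Ψ (t * g) * conj (ψ j (t * g)))
      (φ' := fun g => 4 * (d i g * conj (d j g) + d i g * conj (eta D j g))) fun g hg => ?_]
    · rw [oddSum_smul, oddSum_add, hdη]
      ring
    · have h4 : ¬ 4 ∣ orderOf g := fun h =>
        Nat.not_even_iff_odd.2 hg (even_iff_two_dvd.2 (dvd_trans (by norm_num) h))
      have h1 : ¬ Odd (orderOf (t * g)) := fun h => ((odd_translate S e htc ht g).1 h).1 hg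
      have h2 : ¬ 4 ∣ orderOf (t * g) := fun h => h4 ((four_translate S e htc ht g).1 h)
      rw [hFun, hFun, if_pos hg, if_neg h1, if_neg h2, hinv]
      simp only [hΨ, hd, hφ, Pi.sub_apply, Pi.smul_apply, smul_eq_mul, phiFun, if_neg h4, if_pos hg,
        map_sub]
      ring
  choose m hm using hint
  have hlt : ∀ j, (m j j : ℝ) < 3 / 2 ∧ (0 : ℝ) ≤ m j j := by
    intro j
    have hre : (m j j : ℝ) = 4 * (oddSum fun g => d j g * conj (d j g)).re := by
      have := congrArg Complex.re (hm j j)
      simp at this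
      exact this.symm
    have hb := hbound j
    rw [classInner_split S e htc ht hnc (k := 1) fun g hg => by
      have hn : ¬ Odd (orderOf g) := fun h =>
        Nat.not_even_iff_odd.2 h (even_iff_two_dvd.2 (dvd_trans (by norm_num) hg))
      rw [evenFun, if_neg hn, hfour j g hg, map_one, mul_one]] at hb
    rw [oddSum_congr (φ' := fun g => (eta D j g * conj (eta D j g) + eta D j g * conj (d j g)) +
      (d j g * conj (eta D j g) + d j g * conj (d j g))) fun g hg => by
        have h1 : ¬ Odd (orderOf (t * g)) := fun h => ((odd_translate S e htc ht g).1 h).1 hg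
        rw [evenFun, evenFun, if_pos hg, if_neg h1]
        simp only [hd, hφ, map_sub]
        ring, oddSum_add, oddSum_add, oddSum_add, hηd, hdη, (eta_oddSum S e hnc htc ht D j j).1,
      if_pos rfl] at hb
    have hpos := (oddSum_normSq (d j)).1
    constructor
    · rw [hre]
      norm_num [Complex.add_re, Complex.div_re] at hb ⊢
      linarith
    · rw [hre]
      linarith
  have hd1 : ∀ j, m j j = 0 → ψ j t = eta D j 1 := by
    intro j hj
    have h := hm j j
    rw [hj, Int.cast_zero, mul_eq_zero] at h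
    have h' := (oddSum_normSq (d j)).2 (h.resolve_left (by norm_num))
    rw [hd, hφ] at h'
    simp only [mul_one, sub_eq_zero] at h'
    exact h'
  by_contra hall
  push Not at hall
  have hone : ∀ j, m j j = 1 := by
    intro j
    have h1 : (m j j : ℝ) < 2 := by linarith [(hlt j).1]
    have h2 : m j j < 2 := by exact_mod_cast h1
    have h3 : (0 : ℤ) ≤ m j j := by exact_mod_cast (hlt j).2
    have h4 : m j j ≠ 0 := fun h => hall j (hd1 j h)
    omega
  have hsym : m 1 0 = m 0 1 := by
    have h := congrArg conj (hm 0 1)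
    rw [map_mul, map_ofNat, ← oddSum_conj, map_intCast] at h
    rw [oddSum_congr (φ' := fun g => d 1 g * conj (d 0 g))
      fun g _ => by rw [map_mul, Complex.conj_conj, mul_comm], hm 1 0] at h
    exact_mod_cast h
  have hz : ∀ g, Odd (orderOf g) → d 2 g = -(d 0 g + d 1 g) := by
    intro g hg
    have h1 := hsum g hg
    have h2 := eta_sum D (g := g) fun h4 =>
      Nat.not_even_iff_odd.2 hg (even_iff_two_dvd.2 (dvd_trans (by norm_num) h4))
    simp only [Fin.sum_univ_three] at h1 h2
    simp only [hd, hφ]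
    linear_combination h1 - h2
  have hkey : (m 2 2 : ℂ) = m 0 0 + m 0 1 + (m 1 0 + m 1 1) := by
    rw [← hm, ← hm, ← hm, ← hm, ← hm]
    rw [oddSum_congr (φ := fun g => d 2 g * conj (d 2 g))
      (φ' := fun g => (d 0 g * conj (d 0 g) + d 0 g * conj (d 1 g)) +
      (d 1 g * conj (d 0 g) + d 1 g * conj (d 1 g))) fun g hg => by
        rw [hz g hg, map_neg, map_add]; ring, oddSum_add, oddSum_add, oddSum_add]
    ring
  rw [hone, hone, hone, hsym] at hkey
  have : (1 : ℤ) = 1 + m 0 1 + (m 0 1 + 1) := by exact_mod_cast hkey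
  omega

end Cfsg.Agent.Lib.ZStar.Q8Core
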