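import Cfsg.Agent.Lib.ZStar.Section

/-!
# Generalized characters of the centraliser of the involution

`C` has quaternion Sylow `2`-subgroups of order eight and a central involution `t`.
-/

set_option autoImplicit false

namespace Cfsg.Agent.Lib.ZStar.Q8Local

open Cfsg.Agent.Lib.Characters.Basic
open Cfsg.Agent.Lib.Induced
open scoped ComplexConjugate Classical

universe u

variable {C : Type u} [Group C]

/-- Supported on the elements whose `2`-part is an involution. -/
noncomputable def hFun (θ : C → ℂ) (g : C) : ℂ :=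
  if Odd (orderOf g) then 0 else if 4 ∣ orderOf g then 0 else 2 * θ g

/-- Values `0`, `4`, `2` according to the order of the `2`-part. -/
noncomputable def hZero (g : C) : ℂ :=
  if Odd (orderOf g) then 0 else if 4 ∣ orderOf g then 2 else 4

/-- The functions to be induced. -/
noncomputable def fFun (η : C → ℂ) (g : C) : ℂ :=
  if Odd (orderOf g) then 0 else if 4 ∣ orderOf g then 2 else 2 * (1 + η g)

/-- A function read off from its values at elements of even order not divisible by four. -/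
noncomputable def phiFun (t : C) (ψ : C → ℂ) (g : C) : ℂ :=
  if 4 ∣ orderOf g then 1 else if Odd (orderOf g) then ψ (t * g) else ψ g

/-- The restriction to elements of even order. -/
noncomputable def evenFun (ψ : C → ℂ) (g : C) : ℂ := if Odd (orderOf g) then 0 else ψ g

variable [Finite C] (S : Sylow 2 C) (e : (S : Subgroup C) ≃* QuaternionGroup 2)
  (σ : GenChar.SplitExp (Nat.card C)) {t : C} (htc : t ∈ Subgroup.center C) (ht : orderOf t = 2)

include S e htc ht

theorem invol_unique {y : C} (hy : orderOf y = 2) : y = t := by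
  obtain ⟨R, hR, hyR, htR⟩ := Quat.exists_two_group_pair (i := 1) (j := 1)
    (by rw [hy, pow_one]) (by rw [ht, pow_one]) (Subgroup.mem_center_iff.1 htc y)
  exact Quat.eq_of_invol S e hR hyR htR hy ht

theorem sq_cases {r : C} (h : r ^ 2 = 1) : r = 1 ∨ r = t := by
  rcases eq_or_ne r 1 with h1 | h1
  · exact Or.inl h1
  · exact Or.inr (invol_unique S e htc ht (orderOf_eq_prime h h1))

omit S e ht [Finite C] in
theorem center_class : ∀ g h : C, t * (h * g * h⁻¹) = h * (t * g) * h⁻¹ := fun g h => by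
  rw [← mul_assoc, ← mul_assoc, ← Subgroup.mem_center_iff.1 htc h]
  group

/-- The three kinds of elements. -/
theorem trichotomy (g : C) :
    (g ^ σ.a = 1 ∧ Odd (orderOf g) ∧ ¬ 4 ∣ orderOf g) ∨
      (g ^ σ.a = t ∧ ¬ Odd (orderOf g) ∧ ¬ 4 ∣ orderOf g) ∨
      ((g ^ σ.a) ^ 2 ≠ 1 ∧ ¬ Odd (orderOf g) ∧ 4 ∣ orderOf g) := by
  obtain ⟨hab, -, hodd⟩ := GenChar.split_spec σ (orderOf_dvd_natCard g)
  by_cases h4 : (g ^ σ.a) ^ 2 = 1
  · have hn4 : ¬ 4 ∣ orderOf g := fun h => (Section.four_dvd_iff S e σ g).1 h h4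
    rcases sq_cases S e htc ht h4 with h | h
    · refine Or.inl ⟨h, ?_, hn4⟩
      rw [h, one_mul] at hab
      rwa [hab] at hodd
    · refine Or.inr (Or.inl ⟨h, fun hg => ?_, hn4⟩)
      rw [GenChar.pow_a_of_odd σ hg (orderOf_dvd_natCard g)] at h
      rw [← h, orderOf_one] at ht
      norm_num at ht
  · have h := (Section.four_dvd_iff S e σ g).2 h4
    refine Or.inr (Or.inr ⟨h4, fun hg => ?_, h⟩)
    exact Nat.not_even_iff_odd.2 hg (even_iff_two_dvd.2 (dvd_trans (by norm_num) h))

omit S e in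
theorem pow_a_mul (g : C) : (t * g) ^ σ.a = t * g ^ σ.a := by
  rw [Commute.mul_pow (Subgroup.mem_center_iff.1 htc g).symm,
    GenChar.pow_a_of_two σ (k := 1) (by rw [ht, pow_one]) (orderOf_dvd_natCard t)]

theorem four_translate (g : C) : 4 ∣ orderOf (t * g) ↔ 4 ∣ orderOf g := by
  obtain ⟨σ⟩ := GenChar.exists_splitExp (N := Nat.card C) Nat.card_pos.ne'
  have hc : Commute t (g ^ σ.a) := (Subgroup.mem_center_iff.1 htc _).symm
  rw [Section.four_dvd_iff S e σ, Section.four_dvd_iff S e σ, pow_a_mul σ htc ht, hc.mul_pow,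
    orderOf_dvd_iff_pow_eq_one.1 ht.dvd, one_mul]

theorem odd_translate (g : C) : Odd (orderOf (t * g)) ↔ ¬ Odd (orderOf g) ∧ ¬ 4 ∣ orderOf g := by
  obtain ⟨σ⟩ := GenChar.exists_splitExp (N := Nat.card C) Nat.card_pos.ne'
  have hne : t ≠ 1 := fun h => by rw [h, orderOf_one] at ht; norm_num at ht
  have htt : t * t = 1 := Involutions.Basic.invol_mul_self ht
  have hp := pow_a_mul σ htc ht g
  rcases trichotomy S e σ htc ht g with ⟨h1, h2, h3⟩ | ⟨h1, h2, h3⟩ | ⟨h1, h2, h3⟩ <;>
    rcases trichotomy S e σ htc ht (t * g) with ⟨k1, k2, k3⟩ | ⟨k1, k2, k3⟩ | ⟨k1, k2, k3⟩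
  · exact absurd (by rw [k1, h1, mul_one] at hp; exact hp.symm) hne
  · exact ⟨fun h => absurd h k2, fun h => absurd h2 h.1⟩
  · exact absurd ((four_translate S e htc ht g).1 k3) h3
  · exact ⟨fun _ => ⟨h2, h3⟩, fun _ => k2⟩
  · exact absurd (by rw [k1, h1, htt] at hp; exact hp) hne
  · exact absurd ((four_translate S e htc ht g).1 k3) h3
  · exact absurd ((four_translate S e htc ht g).2 h3) k3
  · exact absurd ((four_translate S e htc ht g).2 h3) k3
  · exact ⟨fun h => absurd h k2, fun h => absurd h3 h.2⟩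

omit S e ht [Finite C] in
theorem class_translate {ψ : C → ℂ} (hψ : Cfsg.IsClassFunction C ψ) (g h : C) :
    ψ (t * (h * g * h⁻¹)) = ψ (t * g) := by
  rw [center_class htc, hψ]

omit S e htc ht [Finite C] in
theorem hFun_class {θ : C → ℂ} (hθ : Cfsg.IsClassFunction C θ) :
    Cfsg.IsClassFunction C (hFun θ) := fun g h => by
  simp only [hFun, Involutions.Basic.orderOf_conj_eq, hθ g h]

omit S e ht [Finite C] in
theorem phiFun_class {ψ : C → ℂ} (hψ : Cfsg.IsClassFunction C ψ) :
    Cfsg.IsClassFunction C (phiFun t ψ) := fun g h => by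
  simp only [phiFun, Involutions.Basic.orderOf_conj_eq, hψ g h, class_translate htc hψ]

theorem phiFun_inv {ψ : C → ℂ} (g : C) : phiFun t ψ (t * g) = phiFun t ψ g := by
  have htt : t * t = 1 := Involutions.Basic.invol_mul_self ht
  unfold phiFun
  by_cases h4 : 4 ∣ orderOf g
  · rw [if_pos h4, if_pos ((four_translate S e htc ht g).2 h4)]
  · rw [if_neg h4, if_neg (fun h => h4 ((four_translate S e htc ht g).1 h))]
    by_cases hg : Odd (orderOf g)
    · rw [if_pos hg, if_neg (fun h => ((odd_translate S e htc ht g).1 h).1 hg)]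
    · rw [if_neg hg, if_pos ((odd_translate S e htc ht g).2 ⟨hg, h4⟩), ← mul_assoc, htt, one_mul]

omit S e htc ht in
theorem range_normal {E : Subgroup C} [Group.IsNilpotent E] (hN : Nat.card E ∣ Nat.card C) :
    (GenChar.twoHom σ hN).range.Normal := by
  constructor
  rintro _ ⟨g, rfl⟩ h
  exact ⟨h * g * h⁻¹, by simp only [GenChar.twoHom_apply, conj_pow]⟩

theorem isGen_hZero : Cfsg.IsGeneralizedCharacter C (hZero : C → ℂ) := by
  obtain ⟨σ⟩ := GenChar.exists_splitExp (N := Nat.card C) Nat.card_pos.ne'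
  refine GenChar.isGen_of_nilpotent
    (fun g h => by simp only [hZero, Involutions.Basic.orderOf_conj_eq]) fun E hE => ?_
  have hN : Nat.card E ∣ Nat.card C := Subgroup.card_subgroup_dvd_card E
  set π := GenChar.twoHom σ hN with hπ
  obtain ⟨f, hf⟩ := Section.exists_range_emb S e σ E hN
  convert Generalized.isGen_comp π.rangeRestrict (QuatGen.isGen_zeroFourTwo f hf) using 1
  funext x
  have hne : t ≠ 1 := fun h => by rw [h, orderOf_one] at ht; norm_num at ht
  have h1 : π.rangeRestrict x ^ 2 = 1 ↔ ((x : C) ^ σ.a) ^ 2 = 1 := by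
    simp [Subtype.ext_iff, hπ, GenChar.twoHom_apply]
  have h2 : π.rangeRestrict x = 1 ↔ (x : C) ^ σ.a = 1 := by
    simp [Subtype.ext_iff, hπ, GenChar.twoHom_apply]
  simp only [hZero, Function.comp_apply, h1, h2]
  rcases trichotomy S e σ htc ht (x : C) with ⟨a, b, c⟩ | ⟨a, b, c⟩ | ⟨a, b, c⟩
  · rw [if_pos b, if_pos (by rw [a, one_pow]), if_pos a]
  · rw [if_neg b, if_neg c, if_pos (by rw [a]; exact orderOf_dvd_iff_pow_eq_one.1 ht.dvd),
      if_neg (by rw [a]; exact hne)]
  · rw [if_neg b, if_pos c, if_neg a]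

theorem isGen_hFun {θ : C → ℂ} (hθ : Cfsg.IsGeneralizedCharacter C θ)
    (hinv : ∀ g, θ (t * g) = θ g) (h0 : ∀ g, 4 ∣ orderOf g → θ g = 0) :
    Cfsg.IsGeneralizedCharacter C (hFun θ) := by
  obtain ⟨σ⟩ := GenChar.exists_splitExp (N := Nat.card C) Nat.card_pos.ne'
  refine GenChar.isGen_of_nilpotent (hFun_class (Generalized.isClassFunction_of_isGen hθ))
    fun E hE => ?_
  have hN : Nat.card E ∣ Nat.card C := Subgroup.card_subgroup_dvd_card E
  set π := GenChar.twoHom σ hN with hπ
  by_cases hex : ∃ r : π.range, ((r : E) : C) = t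
  swap
  · push Not at hex
    convert Generalized.isGen_zero (G := E) using 1
    funext x
    rcases trichotomy S e σ htc ht (x : C) with ⟨a, b, c⟩ | ⟨a, b, c⟩ | ⟨a, b, c⟩
    · rw [hFun, if_pos b, Pi.zero_apply]
    · exact absurd (by simpa [hπ, GenChar.twoHom_apply] using a) (hex (π.rangeRestrict x))
    · rw [hFun, if_neg b, if_pos c, Pi.zero_apply]
  obtain ⟨rt, hrt⟩ := hex
  have := range_normal σ hN
  have := Fintype.ofFinite π.range
  obtain ⟨f, hf⟩ := Section.exists_range_emb S e σ E hN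
  have hrt2 : rt ^ 2 = 1 := by
    refine Subtype.ext (Subtype.ext ?_)
    simp [hrt, orderOf_dvd_iff_pow_eq_one.1 ht.dvd]
  have hrt1 : rt ≠ 1 := fun h => by
    rw [h] at hrt
    simp at hrt
    rw [← hrt, orderOf_one] at ht
    norm_num at ht
  set avg : E → ℂ := fun y => (Nat.card π.range : ℂ)⁻¹ * ∑ r : π.range, θ ((((r : E) * y : E)) : C)
    with havg
  have havgGen : Cfsg.IsGeneralizedCharacter E avg :=
    GenTools.isGen_average π.range (ψ := fun y : E => θ (y : C))
      (Generalized.isGen_comp E.subtype hθ)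
  convert Generalized.isGen_mul
    (Generalized.isGen_comp (GenChar.oddHom σ hN) havgGen)
    (Generalized.isGen_comp π.rangeRestrict
      (GenChar.isGen_translate_regular (QuatGen.central_of_sq f hf hrt2) hrt2)) using 1
  funext x
  obtain ⟨hab, -, hodd⟩ := GenChar.split_spec σ (orderOf_dvd_natCard (x : C))
  set q : E := GenChar.oddHom σ hN x with hq
  have hqC : (q : C) = (x : C) ^ σ.b := by simp [hq, GenChar.oddHom_apply]
  have hsum : avg q = (Nat.card π.range : ℂ)⁻¹ * (2 * θ (q : C)) := by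
    rw [havg]
    simp only
    congr 1
    rw [← Finset.sum_subset (Finset.subset_univ ({1, rt} : Finset π.range))]
    · rw [Finset.sum_pair (Ne.symm hrt1)]
      simp only [OneMemClass.coe_one, one_mul, Subgroup.coe_mul, hrt, hinv]
      ring
    · intro r _ hr
      simp only [Finset.mem_insert, Finset.mem_singleton, not_or] at hr
      refine h0 _ ((Section.four_dvd_iff S e σ _).2 fun hsq => ?_)
      obtain ⟨_, y, rfl⟩ := r
      have hco : Commute ((y : C) ^ σ.a) ((x : C) ^ σ.b) := by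
        have h' : Commute (π y) q := by
          refine Transfer.Frobenius.commute_of_coprime_of_isNilpotent ?_
          obtain ⟨-, ⟨i, hi⟩, -⟩ := GenChar.split_spec σ ((orderOf_dvd_natCard y).trans hN)
          rw [hπ, GenChar.twoHom_apply, hi]
          refine (Nat.Coprime.pow_left i ?_)
          rw [← Subgroup.orderOf_coe, hqC]
          exact hodd.coprime_two_left
        have := congrArg Subtype.val h'.eq
        simp [hπ, GenChar.twoHom_apply, hqC] at this
        exact this
      have hpa : (((π y * q : E)) : C) ^ σ.a = (y : C) ^ σ.a := by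
        obtain ⟨-, ⟨i, hi⟩, -⟩ := GenChar.split_spec σ (orderOf_dvd_natCard (y : C))
        simp only [Subgroup.coe_mul, hqC, hπ, GenChar.twoHom_apply, SubgroupClass.coe_pow]
        rw [hco.mul_pow, GenChar.pow_a_of_two σ hi (orderOf_dvd_natCard _),
          GenChar.pow_a_of_odd σ hodd (orderOf_dvd_natCard _), mul_one]
      rw [hpa] at hsq
      rcases sq_cases S e htc ht hsq with h | h
      · exact hr.1 (Subtype.ext (Subtype.ext (by simp [hπ, GenChar.twoHom_apply, h])))
      · exact hr.2 (Subtype.ext (Subtype.ext (by simp [hπ, GenChar.twoHom_apply, h, hrt])))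
  have hiff : π.rangeRestrict x = rt ↔ (x : C) ^ σ.a = t := by
    simp [Subtype.ext_iff, hπ, GenChar.twoHom_apply, hrt]
  simp only [Pi.mul_apply, Function.comp_apply, ← hq, hsum, hiff]
  have hcard : (Nat.card π.range : ℂ) ≠ 0 := Nat.cast_ne_zero.2 Nat.card_pos.ne'
  rcases trichotomy S e σ htc ht (x : C) with ⟨a, b, c⟩ | ⟨a, b, c⟩ | ⟨a, b, c⟩
  · rw [hFun, if_pos b, if_neg (by rw [a]; exact fun h => by rw [← h, orderOf_one] at ht; norm_num at ht),
      mul_zero]
  · rw [hFun, if_neg b, if_neg c, if_pos a]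
    have hθq : θ (x : C) = θ (q : C) := by
      conv_lhs => rw [← hab, a]
      rw [hinv, hqC]
    rw [hθq]
    field_simp
  · rw [hFun, if_neg b, if_pos c,
      if_neg (fun h => a (by rw [h]; exact orderOf_dvd_iff_pow_eq_one.1 ht.dvd)), mul_zero]

theorem isGen_two_phiFun {ψ : C → ℂ} (hψ : Cfsg.IsGeneralizedCharacter C ψ)
    (h1 : ∀ g, 4 ∣ orderOf g → ψ g = 1) :
    Cfsg.IsGeneralizedCharacter C (fun g => 2 * phiFun t ψ g) := by
  obtain ⟨σ⟩ := GenChar.exists_splitExp (N := Nat.card C) Nat.card_pos.ne'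
  have hψc := Generalized.isClassFunction_of_isGen hψ
  refine GenChar.isGen_of_nilpotent
    (fun g h => congrArg (fun z : ℂ => 2 * z) (phiFun_class htc hψc g h)) fun E hE => ?_
  have hN : Nat.card E ∣ Nat.card C := Subgroup.card_subgroup_dvd_card E
  set π := GenChar.twoHom σ hN with hπ
  set T : C → ℂ := fun g => ψ (t * g) with hT
  have hTgen : Cfsg.IsGeneralizedCharacter C T :=
    GenTools.isGen_translate htc (orderOf_dvd_iff_pow_eq_one.1 ht.dvd) hψ
  have hlow : ∀ x : E, ¬ 4 ∣ orderOf (x : C) → phiFun t ψ (x : C) = T ((x : C) ^ σ.b) := by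
    intro x hx
    obtain ⟨hab, -, -⟩ := GenChar.split_spec σ (orderOf_dvd_natCard (x : C))
    rcases trichotomy S e σ htc ht (x : C) with ⟨a, b, c⟩ | ⟨a, b, c⟩ | ⟨a, b, c⟩
    · rw [a, one_mul] at hab
      rw [phiFun, if_neg hx, if_pos b, hab]
    · rw [phiFun, if_neg hx, if_neg b, hT]
      conv_lhs => rw [← hab, a]
    · exact absurd c hx
  have hsqiff : ∀ x : E, π.rangeRestrict x ^ 2 = 1 ↔ ((x : C) ^ σ.a) ^ 2 = 1 := fun x => by
    simp [Subtype.ext_iff, hπ, GenChar.twoHom_apply]
  by_cases hex : ∀ r : π.range, r ^ 2 = 1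
  · convert Generalized.isGen_zsmul (Generalized.isGen_comp (GenChar.oddHom σ hN)
      (Generalized.isGen_comp E.subtype hTgen)) 2 using 1
    funext x
    have hx : ¬ 4 ∣ orderOf (x : C) := fun h =>
      (Section.four_dvd_iff S e σ (x : C)).1 h ((hsqiff x).1 (hex _))
    simp [hlow x hx, GenChar.oddHom_apply]
  push Not at hex
  obtain ⟨r₀, hr₀⟩ := hex
  obtain ⟨f, hf⟩ := Section.exists_range_emb S e σ E hN
  set y : E := (r₀ : E) with hy
  have hy4 : y ^ 4 = 1 := congrArg Subtype.val (QuatGen.pow_four f hf r₀)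
  have hy2 : ((y : C)) ^ 2 = t := by
    refine invol_unique S e htc ht (orderOf_eq_prime ?_ fun h => hr₀ (Subtype.ext (Subtype.ext ?_)))
    · rw [← pow_mul]; exact_mod_cast congrArg Subtype.val hy4
    · simpa using h
  set E' : Subgroup E := Subgroup.centralizer {y} with hE'
  have hyE : y ∈ E' := Subgroup.mem_centralizer_singleton_iff.2 rfl
  have hzc : (⟨y, hyE⟩ : E') ∈ Subgroup.center E' :=
    Subgroup.mem_center_iff.2 fun g => Subtype.ext (Subgroup.mem_centralizer_singleton_iff.1 g.2)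
  have hz4 : (⟨y, hyE⟩ : E') ^ 4 = 1 := Subtype.ext hy4
  have hqmem : ∀ x : E, GenChar.oddHom σ hN x ∈ E' := by
    intro x
    refine Subgroup.mem_centralizer_singleton_iff.2 (Commute.eq ?_)
    refine (Transfer.Frobenius.commute_of_coprime_of_isNilpotent ?_).symm
    obtain ⟨g, hg⟩ := r₀.2
    rw [hy, ← hg, hπ, GenChar.twoHom_apply, GenChar.oddHom_apply]
    obtain ⟨-, ⟨i, hi⟩, -⟩ := GenChar.split_spec σ ((orderOf_dvd_natCard g).trans hN)
    rw [hi]
    exact (GenChar.split_spec σ ((orderOf_dvd_natCard x).trans hN)).2.2.coprime_two_left.pow_left i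
  set od : E →* E' := (GenChar.oddHom σ hN).codRestrict E' hqmem with hod
  have hψ' : Cfsg.IsGeneralizedCharacter E' (fun g : E' => ψ ((g : E) : C)) :=
    Generalized.isGen_comp (E.subtype.comp E'.subtype) hψ
  have hμ := Generalized.isGen_sub
    (GenChar.isGen_eigen hzc (n := 4) (by norm_num) hz4 (c := -1) (by norm_num) hψ')
    (GenChar.isGen_eigen hzc (n := 4) (by norm_num) hz4 (c := Complex.I) Complex.I_pow_four hψ')
  convert Generalized.isGen_add (Generalized.isGen_const (G := E) 2)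
    (Generalized.isGen_mul (Generalized.isGen_comp od hμ)
      (Generalized.isGen_comp π.rangeRestrict (QuatGen.isGen_low f hf hr₀))) using 1
  funext x
  obtain ⟨hab, -, hodd⟩ := GenChar.split_spec σ (orderOf_dvd_natCard (x : C))
  have hycC : Commute (y : C) ((x : C) ^ σ.b) := by
    have h := congrArg Subtype.val (Subgroup.mem_centralizer_singleton_iff.1 (hqmem x))
    show (y : C) * (x : C) ^ σ.b = (x : C) ^ σ.b * (y : C)
    simpa [GenChar.oddHom_apply] using h.symm
  have hk : ∀ k : ℕ, ((((⟨y, hyE⟩ : E') ^ k * od x : E') : E) : C) =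
      (y : C) ^ k * (x : C) ^ σ.b := fun k => by simp [hod, GenChar.oddHom_apply]
  have hyo : orderOf (y : C) = 4 := Quat.orderOf_eq_four (by exact_mod_cast congrArg Subtype.val hy4)
    (by rw [hy2]; exact fun h => by rw [h, orderOf_one] at ht; norm_num at ht)
  have hfour : ∀ k : ℕ, Odd k → ψ ((y : C) ^ k * (x : C) ^ σ.b) = 1 := by
    intro k hk
    refine h1 _ ((Section.four_dvd_iff S e σ _).2 ?_)
    rw [(hycC.pow_left k).mul_pow, GenChar.pow_a_of_odd σ hodd (orderOf_dvd_natCard _), mul_one]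
    have hok : orderOf ((y : C) ^ k) = 4 := by
      rw [Nat.Coprime.orderOf_pow, hyo]
      rw [hyo]
      exact hk.coprime_two_left.pow_left 2
    rw [GenChar.pow_a_of_two σ (k := 2) hok (orderOf_dvd_natCard _)]
    exact (Quat.orderOf_four hok).2
  simp only [Pi.add_apply, Pi.mul_apply, Function.comp_apply, Pi.sub_apply, Finset.sum_range_succ,
    Finset.sum_range_zero, zero_add, hk]
  rw [hfour 1 odd_one, hfour 3 (by decide)]
  simp only [pow_zero, hy2, one_mul, hsqiff, inv_one,
    Complex.I_sq, pow_one]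
  have hI : (Complex.I)⁻¹ = -Complex.I := Complex.inv_I
  have hI3 : (Complex.I ^ 3)⁻¹ = Complex.I := by
    rw [Complex.I_pow_three, inv_neg, Complex.inv_I, neg_neg]
  rw [hI, hI3]
  by_cases hx : 4 ∣ orderOf (x : C)
  · rw [if_neg ((Section.four_dvd_iff S e σ (x : C)).1 hx), phiFun, if_pos hx]
    push_cast
    ring
  · rw [if_pos (not_not.1 fun h => hx ((Section.four_dvd_iff S e σ (x : C)).2 h)), hlow x hx, hT]
    norm_num
    ring

section Inner

variable [Fintype C]

omit S e htc ht [Finite C] in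
/-- The scaled sum over the elements of odd order. -/
noncomputable def oddSum (φ : C → ℂ) : ℂ :=
  (Nat.card C : ℂ)⁻¹ * ∑ g ∈ Finset.univ.filter (fun g : C => Odd (orderOf g)), φ g

theorem sum_split (F : C → ℂ) :
    ∑ g, F g = ∑ g ∈ Finset.univ.filter (fun g : C => Odd (orderOf g)), (F g + F (t * g)) +
      ∑ g ∈ Finset.univ.filter (fun g : C => 4 ∣ orderOf g), F g := by
  obtain ⟨σ⟩ := GenChar.exists_splitExp (N := Nat.card C) Nat.card_pos.ne'
  have hsplit : ∀ g, F g = (if Odd (orderOf g) then F g else 0) +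
      (if Odd (orderOf (t * g)) then F g else 0) + (if 4 ∣ orderOf g then F g else 0) := by
    intro g
    rw [if_congr (odd_translate S e htc ht g) rfl rfl]
    rcases trichotomy S e σ htc ht g with ⟨a, b, c⟩ | ⟨a, b, c⟩ | ⟨a, b, c⟩ <;> simp [b, c]
  rw [Finset.sum_congr rfl fun g _ => hsplit g, Finset.sum_add_distrib, Finset.sum_add_distrib,
    Finset.sum_add_distrib, Finset.sum_filter, Finset.sum_filter, Finset.sum_filter]
  congr 2
  refine Fintype.sum_equiv (Equiv.mulLeft t) _ _ fun g => ?_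
  simp [← mul_assoc, Involutions.Basic.invol_mul_self ht]

theorem classInner_split (hnc : ∀ N : Subgroup C, N.Normal →
    ¬ Subgroup.IsComplement' N (S : Subgroup C)) {φ ψ : C → ℂ} {k : ℂ}
    (hk : ∀ g, 4 ∣ orderOf g → φ g * conj (ψ g) = k) :
    Cfsg.classInner φ ψ =
      oddSum (fun g => φ g * conj (ψ g) + φ (t * g) * conj (ψ (t * g))) + k / 4 := by
  have hc := Quat.four_mul_card S e hnc
  rw [Cfsg.classInner, sum_split S e htc ht, mul_add, oddSum]
  congr 1
  rw [Finset.sum_congr rfl fun g hg => hk g (Finset.mem_filter.1 hg).2, Finset.sum_const,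
    nsmul_eq_mul]
  rw [Nat.card_eq_fintype_card (α := {g : C // 4 ∣ orderOf g}), Fintype.card_subtype] at hc
  have hne : (Nat.card C : ℂ) ≠ 0 := Nat.cast_ne_zero.2 Nat.card_pos.ne'
  have hc' : (Nat.card C : ℂ) = 4 * ((Finset.univ.filter fun g : C => 4 ∣ orderOf g).card : ℂ) := by
    exact_mod_cast hc.symm
  field_simp
  linear_combination (-k) * hc'

theorem oddSum_one (hnc : ∀ N : Subgroup C, N.Normal →
    ¬ Subgroup.IsComplement' N (S : Subgroup C)) : oddSum (fun _ : C => (1 : ℂ)) = 3 / 8 := by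
  have h := classInner_split S e htc ht hnc (φ := fun _ => 1) (ψ := fun _ => 1) (k := 1)
    (fun g _ => by simp)
  have h1 : Cfsg.classInner (fun _ : C => (1 : ℂ)) (fun _ : C => (1 : ℂ)) = 1 := by
    have hne : (Nat.card C : ℂ) ≠ 0 := Nat.cast_ne_zero.2 Nat.card_pos.ne'
    simp [Cfsg.classInner, ← Nat.card_eq_fintype_card, hne]
  rw [h1] at h
  simp only [oddSum, map_one, mul_one, Finset.sum_add_distrib, mul_add] at h ⊢
  linear_combination -(1 / 2 : ℂ) * h

end Inner

end Cfsg.Agent.Lib.ZStar.Q8Local
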