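import Mathlib.GroupTheory.SpecificGroups.Quaternion
import Cfsg.Prelude.Def_Local
import Cfsg.Agent.Lib.ZStar.GenChar
import Cfsg.Agent.Lib.Cores.Basic
import Cfsg.Agent.Lib.Characters.Complete
import Cfsg.Agent.S0950

/-!
# Groups with quaternion Sylow `2`-subgroups of order eight: the elements
-/

set_option autoImplicit false

namespace Cfsg.Agent.Lib.ZStar.Quat

universe u

theorem q8_four : ∀ q : QuaternionGroup 2, q ^ 4 = 1 := by decide +kernel

theorem q8_invol : ∀ a b : QuaternionGroup 2, a ^ 2 = 1 → a ≠ 1 → b ^ 2 = 1 → b ≠ 1 → a = b := by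
  decide +kernel

theorem q8_comm : ∀ a b : QuaternionGroup 2, a ^ 2 ≠ 1 → b ^ 2 ≠ 1 → a * b = b * a →
    b = a ∨ b = a⁻¹ := by decide +kernel

theorem q8_inv : ∀ a : QuaternionGroup 2, ∃ b, b * a * b⁻¹ = a⁻¹ := by decide +kernel

theorem q8_commutator : ∀ a : QuaternionGroup 2, a ^ 2 = 1 → a ≠ 1 →
    ∃ c d : QuaternionGroup 2, c * d = a * (d * c) := by decide +kernel

theorem q8_central : ∀ a b : QuaternionGroup 2, a ^ 2 = 1 → a * b = b * a := by decide +kernel

theorem orderOf_four {G : Type u} [Group G] {x : G} (hx : orderOf x = 4) :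
    x ^ 4 = 1 ∧ x ^ 2 ≠ 1 :=
  ⟨hx ▸ pow_orderOf_eq_one x, pow_ne_one_of_lt_orderOf (by norm_num) (by omega)⟩

theorem orderOf_sq {G : Type u} [Group G] {x : G} (hx : orderOf x = 4) : orderOf (x ^ 2) = 2 :=
  orderOf_eq_prime (by rw [← pow_mul]; exact (orderOf_four hx).1) (orderOf_four hx).2

theorem orderOf_eq_four {G : Type u} [Group G] {x : G} (h4 : x ^ 4 = 1) (h2 : x ^ 2 ≠ 1) :
    orderOf x = 4 :=
  orderOf_eq_prime_pow (p := 2) (n := 1) (by simpa using h2) h4

theorem isPGroup_zpowers {G : Type u} [Group G] {y : G} {k : ℕ} (hy : orderOf y = 2 ^ k) :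
    IsPGroup 2 (Subgroup.zpowers y) :=
  IsPGroup.of_card (n := k) (by rw [Nat.card_zpowers, hy])

/-- The subgroup generated by two commuting `2`-elements. -/
theorem exists_two_group_pair {G : Type u} [Group G] {y z : G} {i j : ℕ} (hy : orderOf y = 2 ^ i)
    (hz : orderOf z = 2 ^ j) (hc : Commute y z) :
    ∃ R : Subgroup G, IsPGroup 2 R ∧ y ∈ R ∧ z ∈ R := by
  refine ⟨Subgroup.zpowers y ⊔ Subgroup.zpowers z,
    IsPGroup.to_sup_of_normal_left' (isPGroup_zpowers hy) (isPGroup_zpowers hz) ?_,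
    Subgroup.mem_sup_left (Subgroup.mem_zpowers y), Subgroup.mem_sup_right (Subgroup.mem_zpowers z)⟩
  rw [Subgroup.zpowers_le, Subgroup.mem_normalizer_iff]
  intro a
  constructor
  · rintro ⟨n, rfl⟩
    exact ⟨n, by simp only; rw [← (hc.zpow_left n).eq, mul_inv_cancel_right]⟩
  · rintro ⟨n, hn⟩
    refine ⟨n, ?_⟩
    simp only at hn ⊢
    rw [show a = z⁻¹ * (z * a * z⁻¹) * z by group, ← hn, mul_assoc, (hc.zpow_left n).eq,
      inv_mul_cancel_left]

variable {H : Type u} [Group H] [Finite H] (S : Sylow 2 H)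
  (e : (S : Subgroup H) ≃* QuaternionGroup 2)

include e

/-- A `2`-subgroup embeds into the quaternion group. -/
theorem exists_emb {R : Subgroup H} (hR : IsPGroup 2 R) :
    ∃ f : R →* QuaternionGroup 2, Function.Injective f := by
  obtain ⟨Q, hQ⟩ := hR.exists_le_sylow
  exact ⟨e.toMonoidHom.comp ((Q.equiv S).toMonoidHom.comp (Subgroup.inclusion hQ)),
    e.injective.comp ((Q.equiv S).injective.comp (Subgroup.inclusion_injective hQ))⟩

/-- A `2`-group mapped injectively to `H` embeds into the quaternion group. -/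
theorem exists_emb' {T : Type u} [Group T] (hT : IsPGroup 2 T) (i : T →* H)
    (hi : Function.Injective i) :
    ∃ f : T →* QuaternionGroup 2, Function.Injective f := by
  obtain ⟨f, hf⟩ := exists_emb S e (hT.of_equiv (MonoidHom.ofInjective hi))
  exact ⟨f.comp (MonoidHom.ofInjective hi).toMonoidHom,
    hf.comp (MonoidHom.ofInjective hi).injective⟩

theorem card_dvd {R : Subgroup H} (hR : IsPGroup 2 R) : Nat.card R ∣ 8 := by
  obtain ⟨f, hf⟩ := exists_emb S e hR
  have h := Subgroup.card_dvd_of_injective f hf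
  rwa [Nat.card_eq_fintype_card (α := QuaternionGroup 2), QuaternionGroup.card] at h

theorem pow_four_mem {R : Subgroup H} (hR : IsPGroup 2 R) {y : H} (hy : y ∈ R) : y ^ 4 = 1 := by
  obtain ⟨f, hf⟩ := exists_emb S e hR
  have h : (⟨y, hy⟩ : R) ^ 4 = 1 := hf (by rw [map_pow, map_one]; exact q8_four _)
  simpa using congrArg Subtype.val h

theorem eq_of_invol {R : Subgroup H} (hR : IsPGroup 2 R) {y z : H} (hy : y ∈ R) (hz : z ∈ R)
    (hyo : orderOf y = 2) (hzo : orderOf z = 2) : y = z := by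
  obtain ⟨f, hf⟩ := exists_emb S e hR
  have hh : ∀ (w : H) (hw : w ∈ R), orderOf w = 2 →
      f ⟨w, hw⟩ ^ 2 = 1 ∧ f ⟨w, hw⟩ ≠ 1 := by
    intro w hw hwo
    have h1 : orderOf (f ⟨w, hw⟩) = 2 := by rw [orderOf_injective f hf, Subgroup.orderOf_mk, hwo]
    exact ⟨orderOf_dvd_iff_pow_eq_one.1 h1.dvd, fun h => by rw [h, orderOf_one] at h1; norm_num at h1⟩
  exact congrArg Subtype.val (hf (q8_invol _ _ (hh y hy hyo).1 (hh y hy hyo).2 (hh z hz hzo).1
    (hh z hz hzo).2) : (⟨y, hy⟩ : R) = ⟨z, hz⟩)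

theorem eq_of_comm_four {x y : H} (hx : orderOf x = 4) (hy : orderOf y = 4) (hc : Commute x y) :
    y = x ∨ y = x⁻¹ := by
  obtain ⟨R, hR, hxR, hyR⟩ := exists_two_group_pair (i := 2) (j := 2) hx hy hc
  obtain ⟨f, hf⟩ := exists_emb S e hR
  have hh : ∀ (w : H) (hw : w ∈ R), orderOf w = 4 → f ⟨w, hw⟩ ^ 2 ≠ 1 := fun w hw hwo =>
    (orderOf_four (by rw [orderOf_injective f hf, Subgroup.orderOf_mk, hwo])).2
  rcases q8_comm _ _ (hh x hxR hx) (hh y hyR hy)
    (by rw [← map_mul, ← map_mul]; exact congrArg f (Subtype.ext hc.eq)) with h | h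
  · exact Or.inl (congrArg Subtype.val (hf h : (⟨y, hyR⟩ : R) = ⟨x, hxR⟩))
  · rw [← map_inv] at h
    exact Or.inr (congrArg Subtype.val (hf h : (⟨y, hyR⟩ : R) = ⟨x, hxR⟩⁻¹))

theorem two_elem_cases {y : H} {k : ℕ} (hy : orderOf y = 2 ^ k) :
    y = 1 ∨ orderOf y = 2 ∨ orderOf y = 4 := by
  have hd : orderOf y ∣ 4 := orderOf_dvd_of_pow_eq_one
    (pow_four_mem S e (isPGroup_zpowers hy) (Subgroup.mem_zpowers y))
  obtain ⟨j, hj, hj'⟩ := (Nat.dvd_prime_pow Nat.prime_two (m := 2)).1 hd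
  interval_cases j
  · exact Or.inl (orderOf_eq_one_iff.1 hj')
  · exact Or.inr (Or.inl hj')
  · exact Or.inr (Or.inr hj')

omit [Finite H] in
theorem exists_four : ∃ x : H, x ∈ (S : Subgroup H) ∧ orderOf x = 4 := by
  refine ⟨(e.symm (QuaternionGroup.a 1) : (S : Subgroup H)), SetLike.coe_mem _, ?_⟩
  rw [Subgroup.orderOf_coe, MulEquiv.orderOf_eq, QuaternionGroup.orderOf_a_one]

/-- Without a normal `2`-complement all elements of order four are conjugate. -/
theorem conj_four (hnc : ∀ N : Subgroup H, N.Normal → ¬ Subgroup.IsComplement' N (S : Subgroup H))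
    {x y : H} (hx : orderOf x = 4) (hy : orderOf y = 4) : IsConj x y := by
  have into : ∀ w : H, orderOf w = 4 → ∃ w' ∈ (S : Subgroup H), IsConj w w' := by
    intro w hw
    obtain ⟨Q, hQ⟩ := (isPGroup_zpowers (k := 2) hw).exists_le_sylow
    obtain ⟨g, hg⟩ := MulAction.exists_smul_eq H Q S
    refine ⟨g * w * g⁻¹, ?_, isConj_iff.2 ⟨g, rfl⟩⟩
    rw [← hg, Sylow.coe_subgroup_smul]
    simpa using Subgroup.smul_mem_pointwise_smul (a := MulAut.conj g) w (Q : Subgroup H)
      (hQ (Subgroup.mem_zpowers w))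
  obtain ⟨x', hx'S, hxx'⟩ := into x hx
  obtain ⟨y', hy'S, hyy'⟩ := into y hy
  have hx' : orderOf x' = 4 := by
    obtain ⟨g, rfl⟩ := isConj_iff.1 hxx'
    rwa [Involutions.Basic.orderOf_conj_eq]
  have hy' : orderOf y' = 4 := by
    obtain ⟨g, rfl⟩ := isConj_iff.1 hyy'
    rwa [Involutions.Basic.orderOf_conj_eq]
  obtain ⟨n, -, hn⟩ := S0950.result S e hnc (Subgroup.zpowers x') (Subgroup.zpowers y')
    (Subgroup.zpowers_le.2 hx'S) (Subgroup.zpowers_le.2 hy'S)
    (by rw [Nat.card_zpowers, hx']) (by rw [Nat.card_zpowers, hy'])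
  rw [MonoidHom.map_zpowers] at hn
  change Subgroup.zpowers y' = Subgroup.zpowers (n * x' * n⁻¹) at hn
  set w := n * x' * n⁻¹ with hw
  have hwo : orderOf w = 4 := by rw [hw, Involutions.Basic.orderOf_conj_eq, hx']
  have hmem : y' ∈ Subgroup.zpowers w := hn ▸ Subgroup.mem_zpowers y'
  obtain ⟨i, hi⟩ := hmem
  have hcw : Commute w y' := hi ▸ (Commute.refl w).zpow_right i
  have hxw : IsConj x w := hxx'.trans (isConj_iff.2 ⟨n, rfl⟩)
  rcases eq_of_comm_four S e hwo hy' hcw with h | h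
  · exact hxw.trans (h ▸ hyy'.symm)
  · refine hxw.trans (IsConj.trans ?_ (h ▸ hyy'.symm))
    obtain ⟨w', hw'S, hww'⟩ := into w hwo
    obtain ⟨b, hb⟩ := q8_inv (e ⟨w', hw'S⟩)
    have hb' : e.symm b * ⟨w', hw'S⟩ * (e.symm b)⁻¹ = (⟨w', hw'S⟩ : (S : Subgroup H))⁻¹ :=
      e.injective (by simpa using hb)
    refine hww'.trans (IsConj.trans (isConj_iff.2 ⟨(e.symm b : (S : Subgroup H)),
      congrArg Subtype.val hb'⟩) ?_)
    obtain ⟨g, hg⟩ := isConj_iff.1 hww'.symm
    exact isConj_iff.2 ⟨g, by rw [← hg]; simp [mul_assoc]⟩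

/-- The `2`-parts that can commute with an element of order four. -/
theorem two_elem_comm {x y : H} {k : ℕ} (hx : orderOf x = 4) (hy : orderOf y = 2 ^ k)
    (hc : Commute x y) : y ∈ Subgroup.zpowers x := by
  rcases two_elem_cases S e hy with rfl | h | h
  · exact one_mem _
  · obtain ⟨R, hR, hxR, hyR⟩ := exists_two_group_pair (i := 2) hx hy hc
    rw [eq_of_invol S e hR hyR (pow_mem hxR 2) h (orderOf_sq hx)]
    exact pow_mem (Subgroup.mem_zpowers x) 2
  · rcases eq_of_comm_four S e hx h hc with rfl | rfl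
    · exact Subgroup.mem_zpowers _
    · exact inv_mem (Subgroup.mem_zpowers _)

/-- The centraliser of an element of order four has a normal `2`-complement. -/
theorem exists_odd_normal {x : H} (hx : orderOf x = 4) :
    ∃ K : Subgroup (Subgroup.centralizer ({x} : Set H)), K.Normal ∧ Odd (Nat.card K) ∧
      ∀ v : Subgroup.centralizer ({x} : Set H), Odd (orderOf v) → v ∈ K := by
  set C := Subgroup.centralizer ({x} : Set H) with hC
  have hxC : x ∈ C := Subgroup.mem_centralizer_singleton_iff.2 rfl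
  obtain ⟨Q⟩ := (inferInstance : Nonempty (Sylow 2 C))
  have hle : (Q : Subgroup C) ≤ Subgroup.zpowers ⟨x, hxC⟩ := by
    intro q hq
    obtain ⟨k, hk⟩ := IsPGroup.iff_orderOf.1 Q.2 ⟨q, hq⟩
    rw [Subgroup.orderOf_mk, ← Subgroup.orderOf_coe] at hk
    obtain ⟨i, hi⟩ := two_elem_comm S e hx hk
      (Subgroup.mem_centralizer_singleton_iff.1 q.2).symm
    exact ⟨i, Subtype.ext (by simpa using hi)⟩
  have hcyc : IsCyclic Q := Subgroup.isCyclic_of_le hle
  have hmin : (Nat.card C).minFac = 2 := by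
    rw [Nat.minFac_eq_two_iff]
    refine dvd_trans ?_ (orderOf_dvd_natCard (⟨x, hxC⟩ : C))
    rw [Subgroup.orderOf_mk, hx]
    norm_num
  have hK := hcyc.isComplement' hmin
  set K := (MonoidHom.transferSylow Q (hcyc.normalizer_le_centralizer hmin)).ker with hKdef
  have hKn : K.Normal := MonoidHom.normal_ker _
  have h2 : ¬ 2 ∣ Nat.card K := by
    rw [← hK.index_eq_card]
    exact Q.not_dvd_index
  refine ⟨K, hKn, Nat.odd_iff.2 (by omega), fun v hv => ?_⟩
  obtain ⟨i, hi⟩ := Q.2.exists_card_eq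
  have hidx : K.index = 2 ^ i := by rw [hK.symm.index_eq_card, hi]
  have hd1 : orderOf (v : C ⧸ K) ∣ 2 ^ i := by
    rw [← hidx, Subgroup.index_eq_card]
    exact orderOf_dvd_natCard _
  have hd2 : orderOf (v : C ⧸ K) ∣ orderOf v := orderOf_map_dvd (QuotientGroup.mk' K) v
  exact (QuotientGroup.eq_one_iff v).1 (orderOf_eq_one_iff.1
    (Nat.eq_one_of_dvd_coprimes (hv.coprime_two_left.pow_left i) hd1 hd2))

theorem mem_core {x v : H} (hx : orderOf x = 4) (hc : Commute x v) (hv : Odd (orderOf v)) :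
    v ∈ Cfsg.centralizerPPrimeCore 2 x := by
  obtain ⟨K, hKn, hKodd, hK⟩ := exists_odd_normal S e hx
  exact ⟨⟨v, Subgroup.mem_centralizer_singleton_iff.2 hc.eq.symm⟩,
    Cores.le_pPrimeCore (p := 2) (Nat.coprime_two_right.2 hKodd)
      (hK _ (by rwa [Subgroup.orderOf_mk])), rfl⟩

/-- The number of elements of order divisible by four. -/
theorem four_mul_card (hnc : ∀ N : Subgroup H, N.Normal → ¬ Subgroup.IsComplement' N (S : Subgroup H)) :
    4 * Nat.card {g : H // 4 ∣ orderOf g} = Nat.card H := by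
  classical
  have := Fintype.ofFinite H
  obtain ⟨x, -, hx⟩ := exists_four S e
  obtain ⟨σ⟩ := GenChar.exists_splitExp (N := Nat.card H) Nat.card_pos.ne'
  have hd : ∀ g : H, orderOf g ∣ Nat.card H := orderOf_dvd_natCard
  have h4a : ∀ g : H, 4 ∣ orderOf g → orderOf (g ^ σ.a) = 4 := by
    intro g hg
    obtain ⟨hab, ⟨k, hk⟩, hodd⟩ := GenChar.split_spec σ (hd g)
    have hmul : orderOf g ∣ orderOf (g ^ σ.a) * orderOf (g ^ σ.b) := by
      nth_rw 1 [← hab]
      exact ((Commute.refl g).pow_pow _ _).orderOf_mul_dvd_mul_orderOf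
    have h4 : 4 ∣ orderOf (g ^ σ.a) :=
      (Nat.Coprime.pow_left 2 hodd.coprime_two_left).dvd_of_dvd_mul_right
        ((hg.trans hmul : 4 ∣ _))
    rcases two_elem_cases S e hk with h | h | h
    · rw [h, orderOf_one] at h4; norm_num at h4
    · rw [h] at h4; norm_num at h4
    · exact h
  let O : H → Type u := fun y => {v : H // Commute y v ∧ Odd (orderOf v)}
  have hmul4 : ∀ {y v : H}, orderOf y = 4 → Commute y v → Odd (orderOf v) →
      (y * v) ^ σ.a = y ∧ (y * v) ^ σ.b = v ∧ 4 ∣ orderOf (y * v) := by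
    intro y v hy hc hv
    have ha : (y * v) ^ σ.a = y := by
      rw [hc.mul_pow, GenChar.pow_a_of_two σ (k := 2) hy (hd y), GenChar.pow_a_of_odd σ hv (hd v),
        mul_one]
    refine ⟨ha, ?_, ?_⟩
    · rw [hc.mul_pow, GenChar.pow_b_of_two σ (k := 2) hy (hd y), GenChar.pow_b_of_odd σ hv (hd v),
        one_mul]
    · have h := orderOf_pow_dvd (x := y * v) σ.a
      rw [ha, hy] at h
      exact h
  let e1 : {g : H // 4 ∣ orderOf g} ≃ (Σ y : {y : H // orderOf y = 4}, O y.1) :=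
    { toFun := fun g => ⟨⟨g.1 ^ σ.a, h4a g.1 g.2⟩, ⟨g.1 ^ σ.b, (Commute.refl g.1).pow_pow _ _,
        (GenChar.split_spec σ (hd g.1)).2.2⟩⟩
      invFun := fun p => ⟨p.1.1 * p.2.1, (hmul4 p.1.2 p.2.2.1 p.2.2.2).2.2⟩
      left_inv := fun g => Subtype.ext (GenChar.split_spec σ (hd g.1)).1
      right_inv := fun p => by
        obtain ⟨⟨y, hy⟩, v, hc, hv⟩ := p
        obtain ⟨ha, hb, -⟩ := hmul4 hy hc hv
        refine Sigma.ext (Subtype.ext ha) ?_
        refine (Subtype.heq_iff_coe_eq ?_).2 hb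
        intro w
        simp only [ha] }
  have hcx : Nat.card (Subgroup.centralizer ({x} : Set H)) = 4 * Nat.card (O x) := by
    have hmemz : ∀ c : Subgroup.centralizer ({x} : Set H), (c : H) ^ σ.a ∈ Subgroup.zpowers x :=
      fun c => by
        obtain ⟨-, ⟨k, hk⟩, -⟩ := GenChar.split_spec σ (hd (c : H))
        exact two_elem_comm S e hx hk
          (Commute.pow_right (Subgroup.mem_centralizer_singleton_iff.1 c.2).symm σ.a)
    let e2 : Subgroup.centralizer ({x} : Set H) ≃ Subgroup.zpowers x × O x :=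
      { toFun := fun c => (⟨_, hmemz c⟩, ⟨(c : H) ^ σ.b,
          Commute.pow_right (Subgroup.mem_centralizer_singleton_iff.1 c.2).symm σ.b,
          (GenChar.split_spec σ (hd (c : H))).2.2⟩)
        invFun := fun p => ⟨p.1.1 * p.2.1, Subgroup.mem_centralizer_singleton_iff.2 (by
          obtain ⟨i, hi⟩ := p.1.2
          simp only at hi
          rw [← hi]
          exact ((((Commute.refl x).zpow_right i).mul_right p.2.2.1).eq).symm)⟩
        left_inv := fun c => Subtype.ext (GenChar.split_spec σ (hd (c : H))).1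
        right_inv := fun p => by
          obtain ⟨⟨w, i, rfl⟩, v, hc, hv⟩ := p
          obtain ⟨j, -, hj⟩ := (Nat.dvd_prime_pow Nat.prime_two (m := 2)).1
            (by
              have h := orderOf_dvd_of_mem_zpowers (⟨i, rfl⟩ : x ^ i ∈ Subgroup.zpowers x)
              rw [hx] at h
              exact h : orderOf (x ^ i) ∣ 2 ^ 2)
          have hcv : Commute (x ^ i) v := hc.zpow_left i
          refine Prod.ext (Subtype.ext ?_) (Subtype.ext ?_)
          · simp only
            rw [hcv.mul_pow, GenChar.pow_a_of_two σ hj (hd _), GenChar.pow_a_of_odd σ hv (hd v),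
              mul_one]
          · simp only
            rw [hcv.mul_pow, GenChar.pow_b_of_two σ hj (hd _), GenChar.pow_b_of_odd σ hv (hd v),
              one_mul] }
    rw [Nat.card_congr e2, Nat.card_prod, Nat.card_zpowers, hx]
  have hO : ∀ y : {y : H // orderOf y = 4}, Nat.card (O y.1) = Nat.card (O x) := fun y => by
    obtain ⟨g, hg⟩ := isConj_iff.1 (conj_four S e hnc hx y.2)
    refine (Nat.card_congr ((MulAut.conj g).toEquiv.subtypeEquiv fun v => ?_)).symm
    show Commute x v ∧ _ ↔ Commute y.1 (g * v * g⁻¹) ∧ Odd (orderOf (g * v * g⁻¹))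
    rw [Involutions.Basic.orderOf_conj_eq, ← hg]
    exact and_congr_left' (Commute.conj_iff g).symm
  have hcl : Nat.card {y : H // orderOf y = 4} = Nat.card {y : H // IsConj x y} := by
    refine Nat.card_congr (Equiv.subtypeEquivRight fun y => ⟨fun hy => conj_four S e hnc hx hy,
      fun hy => ?_⟩)
    obtain ⟨g, rfl⟩ := isConj_iff.1 hy
    rwa [Involutions.Basic.orderOf_conj_eq]
  have key := Characters.Complete.card_conjugates_mul_centralizer x
  rw [← key, hcx, Nat.card_congr e1, Nat.card_sigma, Finset.sum_congr rfl fun y _ => hO y,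
    Finset.sum_const, Finset.card_univ, ← Nat.card_eq_fintype_card, hcl, smul_eq_mul]
  ring

end Cfsg.Agent.Lib.ZStar.Quat
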