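import Cfsg.Agent.Lib.ZStar.Quat
import Cfsg.Agent.Lib.ZStar.GenTools

/-!
# Generalized characters of subgroups of the quaternion group of order eight
-/

set_option autoImplicit false

namespace Cfsg.Agent.Lib.ZStar.QuatGen

open Cfsg.Agent.Lib.Induced

universe u

variable {T : Type u} [Group T] [Finite T] (f : T →* QuaternionGroup 2)
  (hf : Function.Injective f)

include hf

omit [Finite T] in
theorem central_of_sq {r : T} (hr : r ^ 2 = 1) : r ∈ Subgroup.center T :=
  Subgroup.mem_center_iff.2 fun g => hf (by
    rw [map_mul, map_mul]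
    exact (Quat.q8_central _ _ (by rw [← map_pow, hr, map_one])).symm)

omit [Finite T] in
theorem eq_one_or_eq {w r : T} (hw : w ^ 2 = 1) (hw1 : w ≠ 1) (hr : r ^ 2 = 1) :
    r = 1 ∨ r = w := by
  rcases eq_or_ne r 1 with h | h
  · exact Or.inl h
  · refine Or.inr (hf ?_)
    exact Quat.q8_invol _ _ (by rw [← map_pow, hr, map_one])
      (fun h' => h (hf (h'.trans f.map_one.symm))) (by rw [← map_pow, hw, map_one])
      (fun h' => hw1 (hf (h'.trans f.map_one.symm)))

omit [Finite T] in
theorem pow_four (r : T) : r ^ 4 = 1 := hf (by rw [map_pow, map_one]; exact Quat.q8_four _)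

omit [Finite T] in
theorem card_dvd : Nat.card T ∣ 8 := by
  have h := Subgroup.card_dvd_of_injective f hf
  rwa [Nat.card_eq_fintype_card (α := QuaternionGroup 2), QuaternionGroup.card] at h

open scoped Classical in
/-- Four on the elements of order at most two, when there is an element of order four. -/
theorem isGen_low {r₀ : T} (hr₀ : r₀ ^ 2 ≠ 1) :
    Cfsg.IsGeneralizedCharacter T (fun r => if r ^ 2 = 1 then (4 : ℂ) else 0) := by
  set w := r₀ ^ 2 with hw_def
  have hw : w ^ 2 = 1 := by rw [hw_def, ← pow_mul]; exact pow_four f hf r₀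
  obtain ⟨k, hk⟩ := card_dvd f hf
  convert Generalized.isGen_zsmul (GenTools.isGen_half_sum (central_of_sq f hf hw) hw) (k : ℤ) using 1
  funext r
  have hk' : (Nat.card T : ℂ) * k = 8 := by exact_mod_cast hk.symm
  simp only [Pi.smul_apply, smul_eq_mul, Int.cast_natCast]
  rcases eq_or_ne r 1 with rfl | h1
  · rw [if_pos (one_pow 2), if_pos rfl, if_neg hr₀.symm]
    linear_combination (-(1 / 2) : ℂ) * hk'
  · rcases eq_or_ne r w with rfl | h2
    · rw [if_pos hw, if_neg h1, if_pos rfl]
      linear_combination (-(1 / 2) : ℂ) * hk'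
    · rw [if_neg (fun h => (eq_one_or_eq f hf hw hr₀ h).elim h1 h2), if_neg h1, if_neg h2]
      ring

open scoped Classical in
/-- The function with values `0`, `4`, `2` at elements of order `1`, `2`, `4`. -/
theorem isGen_zeroFourTwo : Cfsg.IsGeneralizedCharacter T
    (fun r => if r ^ 2 = 1 then (if r = 1 then (0 : ℂ) else 4) else 2) := by
  by_cases hall : ∀ r : T, r ^ 2 = 1
  · by_cases htriv : ∀ r : T, r = 1
    · convert Generalized.isGen_zero (G := T) using 1
      funext r
      rw [if_pos (hall r), if_pos (htriv r), Pi.zero_apply]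
    · push Not at htriv
      obtain ⟨w, hw⟩ := htriv
      have h2 : Nat.card T = 2 := by
        rw [Nat.card_eq_two_iff]
        refine ⟨1, w, Ne.symm hw, Set.eq_univ_of_forall fun r => ?_⟩
        rcases eq_one_or_eq f hf (hall w) hw (hall r) with rfl | rfl <;> simp
      convert Generalized.isGen_zsmul
        (GenChar.isGen_translate_regular (central_of_sq f hf (hall w)) (hall w)) 2 using 1
      funext r
      simp only [Pi.smul_apply, smul_eq_mul, h2, if_pos (hall r)]
      rcases eq_one_or_eq f hf (hall w) hw (hall r) with rfl | rfl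
      · rw [if_pos rfl, if_neg (Ne.symm hw)]; simp
      · rw [if_neg hw, if_pos rfl]; norm_num
  · push Not at hall
    obtain ⟨r₀, hr₀⟩ := hall
    set w := r₀ ^ 2 with hw_def
    have hw : w ^ 2 = 1 := by rw [hw_def, ← pow_mul]; exact pow_four f hf r₀
    have hwc := central_of_sq f hf hw
    have hdiff : Cfsg.IsGeneralizedCharacter T
        (fun e => 2 * ((if e = 1 then (1 : ℂ) else 0) - (if e = w then 1 else 0))) := by
      have ho : orderOf r₀ = 4 := Quat.orderOf_eq_four (pow_four f hf r₀) hr₀
      have hdvd : 4 ∣ Nat.card T := ho ▸ orderOf_dvd_natCard r₀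
      have h48 : Nat.card T = 4 ∨ Nat.card T = 8 := by
        have h8 := card_dvd f hf
        have hle := Nat.le_of_dvd (by norm_num) h8
        have hpos : 0 < Nat.card T := Nat.card_pos
        omega
      rcases h48 with h | h
      · convert GenTools.isGen_half_diff hwc hw using 1
        funext r
        rw [h]
        norm_num
      · have hsurj : Function.Surjective f := by
          refine ((Nat.bijective_iff_injective_and_card f).2 ⟨hf, ?_⟩).2
          rw [h, Nat.card_eq_fintype_card, QuaternionGroup.card]
        obtain ⟨c, d, hcd⟩ := Quat.q8_commutator (f w) (by rw [← map_pow, hw, map_one])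
          (fun h' => hr₀ (hf (h'.trans f.map_one.symm)))
        obtain ⟨c, rfl⟩ := hsurj c
        obtain ⟨d, rfl⟩ := hsurj d
        exact GenTools.isGen_quarter_diff h hwc hw (a := c) (b := d)
          (hf (by simp only [map_mul]; exact hcd))
    convert Generalized.isGen_sub (Generalized.isGen_const 2) hdiff using 1
    funext r
    simp only [Pi.sub_apply]
    rcases eq_or_ne r 1 with rfl | h1
    · rw [if_pos (one_pow 2), if_pos rfl, if_pos rfl, if_neg hr₀.symm]; norm_num
    · rcases eq_or_ne r w with rfl | h2
      · rw [if_pos hw, if_neg h1, if_neg h1, if_pos rfl]; norm_num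
      · rw [if_neg (fun h => (eq_one_or_eq f hf hw hr₀ h).elim h1 h2), if_neg h1, if_neg h2]
        norm_num

end Cfsg.Agent.Lib.ZStar.QuatGen
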