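import Cfsg.Agent.Lib.ZStar.QuatGen
import Cfsg.Agent.Lib.ZStar.Reduction

/-!
# The section of an element of order four and the principal block

In a group with quaternion Sylow `2`-subgroups of order eight and no normal `2`-complement, four
times the characteristic function of the elements of order divisible by four is the sum of the
principal character and three signed irreducible characters which are constant there.
-/

set_option autoImplicit false

namespace Cfsg.Agent.Lib.ZStar.Section

open Cfsg.Agent.Lib.Characters.Basic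
open Cfsg.Agent.Lib.Induced
open scoped ComplexConjugate Classical

universe u

variable {H : Type u} [Group H]

/-- Four on the elements of order divisible by four, zero elsewhere. -/
noncomputable def fourFun (g : H) : ℂ := if 4 ∣ orderOf g then 4 else 0

theorem fourFun_classFun : Cfsg.IsClassFunction H (fourFun : H → ℂ) := fun g h => by
  simp only [fourFun, Involutions.Basic.orderOf_conj_eq]

/-- The conclusion of the section lemma. -/
structure Decomp (H : Type u) [Group H] where
  /-- the three characters -/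
  χ : Fin 3 → Cfsg.IrrCharacter H
  /-- the three signs -/
  a : Fin 3 → ℤ
  inj : Function.Injective χ
  ne_one : ∀ j, χ j ≠ oneChar H
  sq : ∀ j, a j ^ 2 = 1
  on_four : ∀ j (g : H), 4 ∣ orderOf g → (a j : ℂ) * (χ j : H → ℂ) g = 1
  sum_eq : ∀ g : H, 1 + ∑ j, (a j : ℂ) * (χ j : H → ℂ) g = fourFun g

theorem orderOf_dvd_card [Finite H] (g : H) : orderOf g ∣ Nat.card H := orderOf_dvd_natCard g

variable [Finite H]

variable (S : Sylow 2 H) (e : (S : Subgroup H) ≃* QuaternionGroup 2)
  (σ : GenChar.SplitExp (Nat.card H))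

include e

theorem four_dvd_iff (g : H) : 4 ∣ orderOf g ↔ (g ^ σ.a) ^ 2 ≠ 1 := by
  obtain ⟨hab, ⟨k, hk⟩, hodd⟩ := GenChar.split_spec σ (orderOf_dvd_card g)
  have hmul : orderOf g ∣ orderOf (g ^ σ.a) * orderOf (g ^ σ.b) := by
    nth_rw 1 [← hab]
    exact ((Commute.refl g).pow_pow _ _).orderOf_mul_dvd_mul_orderOf
  constructor
  · intro h4 h2
    have h' : 4 ∣ orderOf (g ^ σ.a) :=
      (Nat.Coprime.pow_left 2 hodd.coprime_two_left).dvd_of_dvd_mul_right (h4.trans hmul : 4 ∣ _)
    have := Nat.le_of_dvd (by norm_num) (h'.trans (orderOf_dvd_of_pow_eq_one h2))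
    norm_num at this
  · intro h2
    rcases Quat.two_elem_cases S e hk with h | h | h
    · exact absurd (by rw [h, one_pow]) h2
    · exact absurd (h ▸ pow_orderOf_eq_one (g ^ σ.a)) h2
    · exact h ▸ orderOf_pow_dvd σ.a

theorem exists_range_emb (E : Subgroup H) [Group.IsNilpotent E] (hN : Nat.card E ∣ Nat.card H) :
    ∃ f : (GenChar.twoHom σ hN).range →* QuaternionGroup 2, Function.Injective f := by
  refine Quat.exists_emb' S e (IsPGroup.iff_orderOf.2 fun r => ?_)
    (E.subtype.comp (GenChar.twoHom σ hN).range.subtype)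
    (E.subtype_injective.comp Subtype.val_injective)
  obtain ⟨_, g, rfl⟩ := r
  obtain ⟨-, h, -⟩ := GenChar.split_spec σ ((orderOf_dvd_natCard g).trans hN)
  rw [← Subgroup.orderOf_coe]
  exact h

theorem isGen_fourFun : Cfsg.IsGeneralizedCharacter H (fourFun : H → ℂ) := by
  obtain ⟨σ⟩ := GenChar.exists_splitExp (N := Nat.card H) Nat.card_pos.ne'
  refine GenChar.isGen_of_nilpotent fourFun_classFun fun E hE => ?_
  have hN : Nat.card E ∣ Nat.card H := Subgroup.card_subgroup_dvd_card E
  set π := GenChar.twoHom σ hN with hπ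
  obtain ⟨f, hf⟩ := exists_range_emb S e σ E hN
  have hval : ∀ x : E, fourFun (x : H) = if π.rangeRestrict x ^ 2 = 1 then 0 else 4 := by
    intro x
    have hiff : π.rangeRestrict x ^ 2 = 1 ↔ ((x : H) ^ σ.a) ^ 2 = 1 := by
      simp [Subtype.ext_iff, hπ, GenChar.twoHom_apply]
    by_cases h4 : 4 ∣ orderOf (x : H)
    · rw [fourFun, if_pos h4, if_neg (fun h => (four_dvd_iff S e σ (x : H)).1 h4 (hiff.1 h))]
    · rw [fourFun, if_neg h4,
        if_pos (hiff.2 (not_not.1 fun h => h4 ((four_dvd_iff S e σ (x : H)).2 h)))]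
  simp only [hval]
  refine Generalized.isGen_comp π.rangeRestrict
    (θ := fun r => if r ^ 2 = 1 then (0 : ℂ) else 4) ?_
  by_cases hex : ∀ r : π.range, r ^ 2 = 1
  · convert Generalized.isGen_zero (G := π.range) using 1
    funext r
    rw [if_pos (hex r), Pi.zero_apply]
  · push Not at hex
    obtain ⟨r₀, hr₀⟩ := hex
    convert Generalized.isGen_sub (Generalized.isGen_const (G := π.range) 4)
      (QuatGen.isGen_low f hf hr₀) using 1
    funext r
    simp only [Pi.sub_apply]
    split_ifs <;> norm_num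

omit e in
theorem classInner_fourFun [Fintype H] (h : 4 * Nat.card {g : H // 4 ∣ orderOf g} = Nat.card H) :
    Cfsg.classInner (fourFun : H → ℂ) fourFun = 4 ∧
      Cfsg.classInner (fourFun : H → ℂ) (oneChar H : H → ℂ) = 1 := by
  have hc : ((Finset.univ.filter fun g : H => 4 ∣ orderOf g).card : ℂ) * 4 = Nat.card H := by
    rw [← h, Nat.card_eq_fintype_card, Fintype.card_subtype]
    push_cast
    ring
  have hne : (Nat.card H : ℂ) ≠ 0 := Nat.cast_ne_zero.2 Nat.card_pos.ne'
  constructor
  · have : ∀ g : H, fourFun g * conj (fourFun g) = if 4 ∣ orderOf g then 16 else 0 := fun g => by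
      unfold fourFun
      split_ifs <;> norm_num [map_ofNat]
    simp only [Cfsg.classInner, this, Finset.sum_ite, Finset.sum_const_zero, add_zero,
      Finset.sum_const, nsmul_eq_mul]
    field_simp
    linear_combination 4 * hc
  · simp only [Cfsg.classInner, oneChar_apply, map_one, mul_one, fourFun, Finset.sum_ite,
      Finset.sum_const_zero, add_zero, Finset.sum_const, nsmul_eq_mul]
    field_simp
    linear_combination hc

theorem exists_decomp (hPC : Reduction.PrincipalConst.{u}) {M : Ideal Cfsg.AlgInt}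
    (hM : Cfsg.IsPModular 2 M)
    (hnc : ∀ N : Subgroup H, N.Normal → ¬ Subgroup.IsComplement' N (S : Subgroup H)) :
    Nonempty (Decomp H) := by
  have := Fintype.ofFinite H
  have := Fintype.ofFinite (Cfsg.IrrCharacter H)
  have := hM.2.1
  obtain ⟨x, -, hx⟩ := Quat.exists_four S e
  obtain ⟨σ⟩ := GenChar.exists_splitExp (N := Nat.card H) Nat.card_pos.ne'
  obtain ⟨hAA, hA1⟩ := classInner_fourFun (Quat.four_mul_card S e hnc)
  have hxi : IsConj x x⁻¹ := Quat.conj_four S e hnc hx (by rw [orderOf_inv, hx])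
  have hreal : ∀ χ : Cfsg.IrrCharacter H, conj ((χ : H → ℂ) x) = (χ : H → ℂ) x := fun χ => by
    rw [← apply_inv (isCharacter_irr χ), classFunction_apply_of_isConj (isClassFunction_irr χ) hxi]
  set co : Cfsg.IrrCharacter H → ℂ :=
    fun χ => if χ ∈ Cfsg.principalBlock M H then (χ : H → ℂ) x else 0 with hco
  set R : H → ℂ := ∑ χ, co χ • (χ : H → ℂ) with hR
  set c : ℂ := ∑ χ, co χ * co χ with hc
  have hblock : ∀ χ ∈ Cfsg.principalBlock M H, ∀ g : H, 4 ∣ orderOf g →
      (χ : H → ℂ) g = (χ : H → ℂ) x := by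
    intro χ hχ g hg
    obtain ⟨hab, ⟨k, hk⟩, hodd⟩ := GenChar.split_spec σ (orderOf_dvd_card g)
    have h4 : orderOf (g ^ σ.a) = 4 :=
      Quat.orderOf_eq_four (Quat.pow_four_mem S e (Quat.isPGroup_zpowers hk)
        (Subgroup.mem_zpowers _)) ((four_dvd_iff S e σ g).1 hg)
    have hconst := hPC H M hM _ _ 2 h4
      (Quat.mem_core S e h4 ((Commute.refl g).pow_pow _ _) hodd) χ hχ
    rw [hab] at hconst
    rw [hconst, classFunction_apply_of_isConj (isClassFunction_irr χ)
      (Quat.conj_four S e hnc hx h4)]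
  have hRval : ∀ g : H, R g = c / 4 * fourFun g := by
    intro g
    have hRg : R g = ∑ χ, co χ * (χ : H → ℂ) g := by
      rw [hR, Finset.sum_apply]
      rfl
    by_cases hg : 4 ∣ orderOf g
    · rw [hRg, fourFun, if_pos hg, div_mul_cancel₀ _ (by norm_num : (4 : ℂ) ≠ 0), hc]
      refine Finset.sum_congr rfl fun χ _ => ?_
      simp only [hco]
      split_ifs with h
      · rw [hblock χ h g hg]
      · simp
    · rw [hRg, fourFun, if_neg hg, mul_zero]
      obtain ⟨hab, hk, hodd⟩ := GenChar.split_spec σ (orderOf_dvd_card g)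
      have hpp : Cfsg.IsPPart 2 g (g ^ σ.a) :=
        ⟨g ^ σ.b, hab, (Commute.refl g).pow_pow _ _, hk, hodd.not_two_dvd_nat⟩
      have hne : ¬ IsConj (g ^ σ.a) x := fun hcj => hg ((four_dvd_iff S e σ g).2 (fun h => by
        obtain ⟨b, hb⟩ := isConj_iff.1 hcj
        refine (Quat.orderOf_four hx).2 ?_
        rw [← hb, conj_pow, h, mul_one, mul_inv_cancel]))
      have h0 := Blocks.sum_block_eq_zero hM hpp
        (Blocks.isPPart_self Nat.prime_two ⟨2, hx⟩) hne
        (Blocks.isPBlock_principalBlock (M := M))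
      rw [finsum_mem_def, finsum_eq_sum_of_fintype] at h0
      rw [← h0]
      refine Finset.sum_congr rfl fun χ _ => ?_
      simp only [Set.indicator_apply, hco, apply_inv (isCharacter_irr χ), hreal]
      split_ifs <;> ring
  have hone : (oneChar H) ∈ Cfsg.principalBlock M H := Blocks.oneChar_mem_principalBlock
  have hR1 : Cfsg.classInner R (oneChar H : H → ℂ) = 1 := by
    rw [hR, Characters.Complete.classInner_irr_sum]
    simp only [hco, if_pos hone, oneChar_apply]
  have hc4 : c = 4 := by
    have hRf : R = (c / 4) • (fourFun : H → ℂ) := funext hRval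
    rw [hRf, Induced.Basic.classInner_smul_left, hA1, mul_one, div_eq_one_iff_eq (by norm_num)] at hR1
    exact hR1
  have hRA : (fourFun : H → ℂ) = R := funext fun g => by
    rw [hRval g, hc4, div_self (by norm_num : (4 : ℂ) ≠ 0), one_mul]
  obtain ⟨d, hd, -, hdn⟩ := Generalized.exists_coeff (isGen_fourFun S e)
  have hcod : ∀ χ, co χ = d χ := fun χ => by
    rw [← hd, hRA, hR, Characters.Complete.classInner_irr_sum]
  have hd1 : d (oneChar H) = 1 := by
    have := (hd (oneChar H)).symm.trans hA1
    exact_mod_cast this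
  have hsum : ∑ χ, d χ ^ 2 = 4 := by
    rw [hAA] at hdn
    exact_mod_cast hdn.symm
  set T := (Finset.univ.erase (oneChar H)).filter (fun χ => d χ ≠ 0) with hT
  have hrest : ∑ χ ∈ T, d χ ^ 2 = 3 := by
    have hf : ∀ χ ∈ Finset.univ.erase (oneChar H), d χ ^ 2 ≠ 0 → d χ ≠ 0 :=
      fun χ _ h0 h1 => h0 (by rw [h1]; norm_num)
    rw [hT, Finset.sum_filter_of_ne hf]
    have := Finset.add_sum_erase Finset.univ (fun χ => d χ ^ 2) (Finset.mem_univ (oneChar H))
    simp only [hd1, hsum] at this
    omega
  have hunit : ∀ χ ∈ T, d χ ^ 2 = 1 := by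
    intro χ hχ
    have hle := Finset.single_le_sum (fun ψ (_ : ψ ∈ T) => sq_nonneg (d ψ)) hχ
    rw [hrest] at hle
    have hne := (Finset.mem_filter.1 hχ).2
    have h1 : -1 ≤ d χ ∧ d χ ≤ 1 := by constructor <;> nlinarith
    rcases (show d χ = 1 ∨ d χ = -1 by omega) with h | h <;> rw [h] <;> norm_num
  have hcard : T.card = 3 := by
    have := hrest
    rw [Finset.sum_congr rfl hunit, Finset.sum_const, nsmul_eq_mul, mul_one] at this
    exact_mod_cast this
  set χs : Fin 3 → Cfsg.IrrCharacter H := fun j => ((T.equivFinOfCardEq hcard).symm j : _) with hχs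
  have hmem : ∀ j, χs j ∈ T := fun j => ((T.equivFinOfCardEq hcard).symm j).2
  refine ⟨⟨χs, fun j => d (χs j), Subtype.val_injective.comp (T.equivFinOfCardEq hcard).symm.injective,
    fun j => Finset.ne_of_mem_erase (Finset.mem_filter.1 (hmem j)).1,
    fun j => hunit _ (hmem j), fun j g hg => ?_, fun g => ?_⟩⟩
  · have hB : χs j ∈ Cfsg.principalBlock M H := by
      by_contra hn
      have := hcod (χs j)
      rw [hco] at this
      simp only [if_neg hn] at this
      exact (Finset.mem_filter.1 (hmem j)).2 (by exact_mod_cast this.symm)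
    have h := hcod (χs j)
    rw [hco] at h
    simp only [if_pos hB] at h
    rw [hblock _ hB g hg, h, ← sq, ← Int.cast_pow, hunit _ (hmem j), Int.cast_one]
  · have h := congrFun hRA g
    simp only [hR, Finset.sum_apply, Pi.smul_apply, smul_eq_mul, hcod] at h
    rw [h, ← Finset.add_sum_erase _ _ (Finset.mem_univ (oneChar H)), hd1, Int.cast_one, one_mul,
      oneChar_apply]
    congr 1
    rw [← Finset.sum_filter_of_ne (s := Finset.univ.erase (oneChar H)) (p := fun χ => d χ ≠ 0)
      (fun χ _ h0 h1 => h0 (by rw [h1]; simp)), ← hT]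
    refine (Fintype.sum_equiv (T.equivFinOfCardEq hcard).symm
      (fun j => (d (χs j) : ℂ) * (χs j : H → ℂ) g)
      (fun p : T => (d p.1 : ℂ) * (p.1 : H → ℂ) g) fun j => rfl).trans ?_
    exact Finset.sum_coe_sort T fun χ => (d χ : ℂ) * (χ : H → ℂ) g

end Cfsg.Agent.Lib.ZStar.Section
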